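import Cfsg.Agent.SB.Exc.Max.Defs
import Cfsg.Agent.SB.Exc.W.E6
import Cfsg.Agent.DS.Ex.TorFrame
import Cfsg.Agent.H296.FFourGam

/-!
# S5765, exceptional groups: the facts on root systems `BoxMC` (helper56)
-/

set_option autoImplicit false
set_option linter.unusedSectionVars false

namespace Cfsg.Agent.SB.Exc.Frm

open CoxeterSystem Cfsg Cfsg.Lie Cfsg.Lie.ChevalleyDatum
open Cfsg.Agent.ChevalleyStructure Cfsg.Agent.ChevalleyStructure.Elts Cfsg.Agent.ChevalleyStructure.CoxeterGeom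
  Cfsg.Agent.ChevalleyStructure.CoxeterGeomTypes
open Cfsg.Agent.Tits.Roots Cfsg.Agent.Tits.Core Cfsg.Agent.Nodes Cfsg.Agent.Nodes.Reps Cfsg.Agent.Nodes.BNOf
  Cfsg.Agent.Nodes.RGDChev Cfsg.Agent.Nodes.Bruhat Cfsg.Agent.Nodes.Coroot
open Cfsg.Agent.KFacts.RgdField Cfsg.Agent.KFacts.RgdChevCoord
open Cfsg.Agent.BpExc Cfsg.Agent.BpExc.Zc
open Cfsg.Agent.H469.Exc Cfsg.Agent.DS.Ex Cfsg.Agent.SB.Exc.Max
open scoped commutatorElement

/-! ### the type of a datum -/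

theorem type_of {D : ChevalleyDatum} {l : ℕ} {M : CoxeterMatrix (Fin l)} (hp : IsType D l M) {l' : ℕ}
    {M' : CoxeterMatrix (Fin l')} (hp' : IsType D l' M') (hD : Typ D) :
    (⟨l, M⟩ : Σ n : ℕ, CoxeterMatrix (Fin n)) = ⟨l', M'⟩ := by
  have key : ∀ {l : ℕ} {M : CoxeterMatrix (Fin l)}, IsType D l M →
      (D.nroots = 48 → (⟨l, M⟩ : Σ n : ℕ, CoxeterMatrix (Fin n)) = ⟨4, CoxeterMatrix.F₄⟩) ∧
      (D.nroots = 72 → (⟨l, M⟩ : Σ n : ℕ, CoxeterMatrix (Fin n)) = ⟨6, CoxeterMatrix.E₆⟩) ∧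
      (D.nroots = 126 → (⟨l, M⟩ : Σ n : ℕ, CoxeterMatrix (Fin n)) = ⟨7, CoxeterMatrix.E₇⟩) ∧
      (D.nroots = 240 → (⟨l, M⟩ : Σ n : ℕ, CoxeterMatrix (Fin n)) = ⟨8, CoxeterMatrix.E₈⟩) := by
    intro l M hp
    simp only [IsType, typeList, List.mem_cons, List.not_mem_nil, or_false, Prod.mk.injEq] at hp
    rcases hp with ⟨rfl, e⟩ | ⟨rfl, e⟩ | ⟨rfl, e⟩ | ⟨rfl, e⟩ | ⟨rfl, e⟩ | ⟨rfl, e⟩ | ⟨rfl, e⟩ <;>
      refine ⟨fun h => ?_, fun h => ?_, fun h => ?_, fun h => ?_⟩ <;>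
      first | exact absurd h (by decide +kernel) | exact e
  rcases hD with rfl | rfl | rfl | rfl
  · exact ((key hp).1 rfl).trans ((key hp').1 rfl).symm
  · exact ((key hp).2.1 rfl).trans ((key hp').2.1 rfl).symm
  · exact ((key hp).2.2.1 rfl).trans ((key hp').2.2.1 rfl).symm
  · exact ((key hp).2.2.2 rfl).trans ((key hp').2.2.2 rfl).symm

/-! ### commuting root groups -/

section Comm

variable {D : ChevalleyDatum} {l : ℕ} {M : CoxeterMatrix (Fin l)} (hp : IsType D l M) (p : ℕ) [Fact p.Prime]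

theorem comm_of_nz {a b : Fin l → ℤ} (ha : IsRoot M.toCoxeterSystem hp.isCartan a)
    (hb : IsRoot M.toCoxeterSystem hp.isCartan b) (hab : a ≠ -b)
    (h : a ≠ b → ∀ i j : ℤ, 0 < i → 0 < j → ¬ IsRoot M.toCoxeterSystem hp.isCartan (i • a + j • b)) {u v : YY D p}
    (hu : u ∈ XX D l (KK p) a) (hv : v ∈ XX D l (KK p) b) : u * v = v * u := by
  by_cases e : a = b
  · exact Tor.X_comm (hp := hp) ha hu (e ▸ hv)
  · have h1 := Tor.commZ hp p a b ha hb e hab u hu v hv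
    have h2 : RGD.Sup (XX D l (KK p)) {z | ZB M.toCoxeterSystem hp.isCartan a b z} ≤ ⊥ := by
      refine RGD.Sup_le ?_
      rintro z ⟨hz, i, j, hi, hj, rfl⟩
      exact absurd hz (h e i j hi hj)
    exact commutatorElement_eq_one_iff_mul_comm.1 (Subgroup.mem_bot.1 (h2 h1))

theorem dc_sl (h4 : ∀ i j, M i j ≠ 4) (h6 : ∀ i j, M i j ≠ 6) : DC M.toCoxeterSystem hp.isCartan (XX D l (KK p)) := by
  have := finite_W hp M.toCoxeterSystem
  intro a b ha hb h0 u hu v hv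
  refine comm_of_nz hp p ha hb (fun e => ?_) (fun _ i j hi hj hz => ?_) hu hv
  · rw [e, cpr_neg_right _ _ _ hb, cpr_self _ _ hb] at h0
    omega
  · have h1 := cpr_self _ _ hz
    have s := fun {x y} hx hy => SimplyLaced.cpr_symm M.toCoxeterSystem hp.isCartan h4 h6 (x := x) (y := y) hx hy
    rw [cpr_add _ _ _ _ hz, cpr_smul _ _ _ _ hz, cpr_smul _ _ _ _ hz, s ha hz, s hb hz, cpr_add _ _ _ _ ha,
      cpr_add _ _ _ _ hb, cpr_smul _ _ _ _ ha, cpr_smul _ _ _ _ ha, cpr_smul _ _ _ _ hb, cpr_smul _ _ _ _ hb,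
      cpr_self _ _ ha, cpr_self _ _ hb, s ha hb] at h1
    nlinarith [mul_pos hi hj, mul_nonneg (mul_pos hi hj).le h0]

/-- three neighbours of the fundamental roots -/
def N3 (D : ChevalleyDatum) : Prop := ∀ i < D.rank, ∃ s < D.nroots, D.cartan i s = 1 ∧ ∃ t < s, D.cartan i t = 1 ∧
  ∃ u < t, D.cartan i u = 1

theorem ir_of (h : N3 D) : IR3 M.toCoxeterSystem hp.isCartan := by
  have := finite_W hp M.toCoxeterSystem
  rintro _ ⟨w, i, rfl⟩
  obtain ⟨s, hs, h1, t, ht, h2, u, hu, h3⟩ := h i (lt_rank hp i)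
  have ht' : t < D.nroots := by omega
  have hu' : u < D.nroots := by omega
  have key : ∀ r < D.nroots, cpr M.toCoxeterSystem hp.isCartan (rep M.toCoxeterSystem hp.isCartan w (vec D l r))
      (rep M.toCoxeterSystem hp.isCartan w (sr i)) = D.cartan i r := fun r hr => by
    rw [cpr_rep _ _ _ _ (isRoot_sr _ _ i), cpr_sr, pairing_vec hp i hr]
  have ne : ∀ r < D.nroots, ∀ r' < D.nroots, r ≠ r' → rep M.toCoxeterSystem hp.isCartan w (vec D l r) ≠
      rep M.toCoxeterSystem hp.isCartan w (vec D l r') := fun r hr r' hr' e e' =>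
    e (vec_inj hp hr hr' (rep_injective_apply _ _ w e'))
  exact ⟨_, _, _, (isRoot_vec hp _ hs).act w, (isRoot_vec hp _ ht').act w, (isRoot_vec hp _ hu').act w,
    ne s hs t ht' (by omega), ne s hs u hu' (by omega), ne t ht' u hu' (by omega), (key s hs).trans h1,
    (key t ht').trans h2, (key u hu').trans h3⟩

end Comm

theorem n3_F4 : N3 chevF4 := by unfold N3; decide +kernel
theorem n3_E6 : N3 chevE6 := by unfold N3; decide +kernel
theorem n3_E7 : N3 chevE7 := by unfold N3; decide +kernel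
theorem n3_E8 : N3 chevE8 := by unfold N3; decide +kernel

theorem ne4_E7 : ∀ i j : Fin 7, CoxeterMatrix.E₇ i j ≠ 4 := fun i j => by fin_cases i <;> fin_cases j <;> decide
theorem ne6_E7 : ∀ i j : Fin 7, CoxeterMatrix.E₇ i j ≠ 6 := fun i j => by fin_cases i <;> fin_cases j <;> decide
theorem ne4_E8 : ∀ i j : Fin 8, CoxeterMatrix.E₈ i j ≠ 4 := fun i j => by fin_cases i <;> fin_cases j <;> decide
theorem ne6_E8 : ∀ i j : Fin 8, CoxeterMatrix.E₈ i j ≠ 6 := fun i j => by fin_cases i <;> fin_cases j <;> decide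

/-! ### `F₄` -/

namespace Four

/-- the invariant form -/
def bf (x y : Fin 4 → ℤ) : ℤ := x 0 * (2 * y 0 - y 1) + x 1 * (2 * y 1 - y 0 - 2 * y 2) +
  x 2 * (4 * y 2 - 2 * y 1 - 2 * y 3) + x 3 * (4 * y 3 - 2 * y 2)

/-- four integers -/
abbrev T4 : Type := ℤ × ℤ × ℤ × ℤ

/-- the vector -/
def tv (x : T4) : Fin 4 → ℤ := ![x.1, x.2.1, x.2.2.1, x.2.2.2]

/-- the tuple -/
def vt (x : Fin 4 → ℤ) : T4 := (x 0, x 1, x 2, x 3)

/-- the invariant form -/
def ip (x y : T4) : ℤ := x.1 * (2 * y.1 - y.2.1) + x.2.1 * (2 * y.2.1 - y.1 - 2 * y.2.2.1) +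
  x.2.2.1 * (4 * y.2.2.1 - 2 * y.2.1 - 2 * y.2.2.2) + x.2.2.2 * (4 * y.2.2.2 - 2 * y.2.2.1)

/-- the Cartan integer -/
def cp (x y : T4) : ℤ := 2 * ip x y / ip y y

/-- the roots -/
def RL : List T4 :=
  [(-2, -4, -3, -2), (-2, -4, -3, -1), (-2, -4, -2, -1), (-2, -3, -2, -1), (-2, -2, -2, -1), (-2, -2, -1, -1),
  (-2, -2, -1, 0), (-1, -3, -2, -1), (-1, -2, -2, -1), (-1, -2, -1, -1), (-1, -2, -1, 0), (-1, -1, -1, -1),
  (-1, -1, -1, 0), (-1, -1, 0, 0), (-1, 0, 0, 0), (0, -2, -2, -1), (0, -2, -1, -1), (0, -2, -1, 0), (0, -1, -1, -1),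
  (0, -1, -1, 0), (0, -1, 0, 0), (0, 0, -1, -1), (0, 0, -1, 0), (0, 0, 0, -1), (0, 0, 0, 1), (0, 0, 1, 0), (0, 0, 1, 1),
  (0, 1, 0, 0), (0, 1, 1, 0), (0, 1, 1, 1), (0, 2, 1, 0), (0, 2, 1, 1), (0, 2, 2, 1), (1, 0, 0, 0), (1, 1, 0, 0),
  (1, 1, 1, 0), (1, 1, 1, 1), (1, 2, 1, 0), (1, 2, 1, 1), (1, 2, 2, 1), (1, 3, 2, 1), (2, 2, 1, 0), (2, 2, 1, 1),
  (2, 2, 2, 1), (2, 3, 2, 1), (2, 4, 2, 1), (2, 4, 3, 1), (2, 4, 3, 2)]

theorem tv_vt (x : Fin 4 → ℤ) : tv (vt x) = x := by funext i; fin_cases i <;> rfl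

theorem tv_inj {x y : T4} (h : tv x = tv y) : x = y := congrArg vt h

theorem tv_add (x y : T4) : tv (x + y) = tv x + tv y := by funext i; fin_cases i <;> rfl

theorem vec_eq : ∀ s < 48, vt (vec chevF4 4 s) = RL.getD s 0 := by decide +kernel

theorem getD_mem : ∀ s < 48, RL.getD s 0 ∈ RL := by decide +kernel

theorem mem_getD : ∀ x ∈ RL, ∃ s < 48, RL.getD s 0 = x := by decide +kernel

theorem cartan_eq : ∀ i j : Fin 4, cartanOf chevF4 4 i j =
    (![![2, -1, 0, 0], ![-1, 2, -2, 0], ![0, -1, 2, -1], ![0, 0, -1, 2]] : Fin 4 → Fin 4 → ℤ) i j := by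
  decide +kernel

theorem norm_tab : ∀ x ∈ RL, ip x x = 2 ∨ ip x x = 4 := by decide +kernel

theorem lg_tab : ∀ a ∈ RL, (ip a a = 4 → ∀ c ∈ RL, c ≠ a → cp c a ≤ 1) ∧ (ip a a ≠ 4 → ∃ c ∈ RL, c ≠ a ∧ 2 ≤ cp c a) := by
  decide +kernel

theorem pair_tab₁ : ∀ a ∈ RL, ∀ b ∈ RL, b ≠ a → 2 ≤ cp b a → ip b b = 4 := by decide +kernel

theorem pair_tab₂ : ∀ a ∈ RL, ∀ b ∈ RL, ip a a ≠ 4 → ip b b = 4 → cp b a % 2 = 0 := by decide +kernel

theorem pair_tab₃ : ∀ a ∈ RL, ∀ b ∈ RL, ip a a ≠ 4 → ip b b ≠ 4 → cp b a = 0 → a + b ∈ RL := by decide +kernel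

/-- no positive combination is a root -/
def NZ (x y : T4) : Prop := 0 ≤ ip x y ∧ 4 < ip x x + 2 * ip x y + ip y y

open Cfsg.Agent.H296.FFour in
theorem nz_tab : ∀ r < 48, ∀ s < 48, 0 ≤ cp (RL.getD s 0) (RL.getD r 0) →
    NZ (RL.getD r 0) (RL.getD s 0) ∨ NZ (RL.getD (br r) 0) (RL.getD (br s) 0) := by
  unfold NZ
  decide +kernel

section Main

variable {W : Type*} [Group W] [Finite W] (hp : IsType chevF4 4 CoxeterMatrix.F₄) (cs : CoxeterSystem CoxeterMatrix.F₄ W)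

theorem vec_tv {s : ℕ} (hs : s < 48) : vec chevF4 4 s = tv (RL.getD s 0) := by rw [← vec_eq s hs, tv_vt]

theorem root_iff (x : T4) : IsRoot cs hp.isCartan (tv x) ↔ x ∈ RL := by
  rw [isRoot_iff hp cs]
  constructor
  · rintro ⟨s, hs, h⟩
    rw [vec_tv hs] at h
    exact tv_inj h ▸ getD_mem s hs
  · intro h
    obtain ⟨s, hs, rfl⟩ := mem_getD x h
    exact ⟨s, hs, vec_tv hs⟩

theorem exists_tv {b : Fin 4 → ℤ} (hb : IsRoot cs hp.isCartan b) : ∃ y ∈ RL, b = tv y :=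
  ⟨vt b, (root_iff hp cs _).1 (by rwa [tv_vt]), (tv_vt b).symm⟩

theorem bf_simple (i : Fin 4) (x y : Fin 4 → ℤ) :
    bf (rep cs hp.isCartan (cs.simple i) x) (rep cs hp.isCartan (cs.simple i) y) = bf x y := by
  rw [rep_simple_eq, rep_simple_eq]
  simp only [bf, CoxeterGeom.pairing, cartan_eq, Fin.sum_univ_four, sr]
  fin_cases i <;> simp <;> ring

theorem bf_rep (w : W) (x y : Fin 4 → ℤ) : bf (rep cs hp.isCartan w x) (rep cs hp.isCartan w y) = bf x y := by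
  obtain ⟨ω, rfl⟩ := cs.wordProd_surjective w
  induction ω with
  | nil => rw [wordProd_nil, map_one]; rfl
  | cons i ω ih => rw [wordProd_cons, rep_mul_apply, rep_mul_apply, bf_simple hp, ih]

theorem cpr_bf (x : Fin 4 → ℤ) {y : Fin 4 → ℤ} (hy : IsRoot cs hp.isCartan y) :
    cpr cs hp.isCartan x y * bf y y = 2 * bf x y := by
  obtain ⟨w, i, rfl⟩ := hy
  rw [cpr_rep_sr, bf_rep hp, ← rep_apply_inv cs hp.isCartan w x, bf_rep hp, rep_inv_apply]
  generalize rep cs hp.isCartan w⁻¹ x = z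
  simp only [bf, CoxeterGeom.pairing, cartan_eq, Fin.sum_univ_four, sr]
  fin_cases i <;> simp <;> ring

theorem cpr_tv (x : T4) {y : T4} (hy : y ∈ RL) : cpr cs hp.isCartan (tv x) (tv y) = cp x y := by
  have h1 : cpr cs hp.isCartan (tv x) (tv y) * ip y y = 2 * ip x y := cpr_bf hp cs (tv x) ((root_iff hp cs y).2 hy)
  have h2 : ip y y ≠ 0 := by rcases norm_tab y hy with h | h <;> omega
  rw [cp, ← h1, Int.mul_ediv_cancel _ h2]

theorem lg_iff {a : T4} (ha : a ∈ RL) : Lg cs hp.isCartan (tv a) ↔ ip a a = 4 := by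
  constructor
  · intro h
    by_contra h1
    obtain ⟨c, hc, h2, h3⟩ := (lg_tab a ha).2 h1
    have h4 := h (tv c) ((root_iff hp cs c).2 hc) fun e => h2 (tv_inj e)
    rw [cpr_tv hp cs c ha] at h4
    omega
  · intro h c hc hne
    obtain ⟨c, hc', rfl⟩ := exists_tv hp cs hc
    rw [cpr_tv hp cs c ha]
    exact (lg_tab a ha).1 h c hc' fun e => hne (e ▸ rfl)

theorem f4c : F4C cs hp.isCartan where
  long a c ha hc hne h := by
    obtain ⟨a, ha', rfl⟩ := exists_tv hp cs ha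
    obtain ⟨c, hc', rfl⟩ := exists_tv hp cs hc
    rw [cpr_tv hp cs c ha'] at h
    exact (lg_iff hp cs hc').2 (pair_tab₁ a ha' c hc' (fun e => hne (e ▸ rfl)) h)
  even a b ha hb h h' := by
    obtain ⟨a, ha', rfl⟩ := exists_tv hp cs ha
    obtain ⟨b, hb', rfl⟩ := exists_tv hp cs hb
    rw [lg_iff hp cs ha'] at h
    rw [lg_iff hp cs hb'] at h'
    rw [cpr_tv hp cs b ha', Int.even_iff]
    exact pair_tab₂ a ha' b hb' h h'
  pair := by
    have h1 : ((0, 0, 1, 0) : T4) ∈ RL := by decide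
    have h2 : ((0, 0, 1, 1) : T4) ∈ RL := by decide
    exact ⟨_, _, (root_iff hp cs _).2 h1, (root_iff hp cs _).2 h2, (lg_iff hp cs h1).2 (by decide),
      (lg_iff hp cs h2).2 (by decide), by rw [cpr_tv hp cs _ h1]; decide⟩
  short := by
    have h1 : ((1, 0, 0, 0) : T4) ∈ RL := by decide
    exact ⟨_, (root_iff hp cs _).2 h1, by rw [lg_iff hp cs h1]; decide⟩
  add a b ha hb h h' h0 := by
    obtain ⟨a, ha', rfl⟩ := exists_tv hp cs ha
    obtain ⟨b, hb', rfl⟩ := exists_tv hp cs hb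
    rw [lg_iff hp cs ha'] at h
    rw [lg_iff hp cs hb'] at h'
    rw [cpr_tv hp cs b ha'] at h0
    rw [← tv_add, root_iff hp]
    exact pair_tab₃ a ha' b hb' h h' h0

end Main

theorem comm_nz (hp : IsType chevF4 4 CoxeterMatrix.F₄) (p : ℕ) [Fact p.Prime] {r s : ℕ} (hr : r < 48) (hs : s < 48)
    (h : NZ (RL.getD r 0) (RL.getD s 0)) {u v : YY chevF4 p} (hu : u ∈ XX chevF4 4 (KK p) (vec chevF4 4 r))
    (hv : v ∈ XX chevF4 4 (KK p) (vec chevF4 4 s)) : u * v = v * u := by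
  have := finite_W hp CoxeterMatrix.F₄.toCoxeterSystem
  have h1 := norm_tab _ (getD_mem r hr)
  have h2 := norm_tab _ (getD_mem s hs)
  obtain ⟨h3, h4⟩ := h
  have e1 := vec_tv hr
  have e2 := vec_tv hs
  generalize RL.getD r 0 = x at *
  generalize RL.getD s 0 = y at *
  refine comm_of_nz hp p (isRoot_vec hp _ hr) (isRoot_vec hp _ hs) (fun e => ?_) (fun _ i j hi hj hz => ?_) hu hv
  · rw [e1, e2] at e
    have h5 : x = -y := congrArg vt e
    have h6 : ip (-y) y = -ip y y := by simp only [ip, Prod.fst_neg, Prod.snd_neg]; ring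
    rw [h5, h6] at h3
    omega
  · rw [e1, e2, ← tv_vt (i • tv x + j • tv y), root_iff hp] at hz
    have h5 := norm_tab _ hz
    have h6 : ip (vt (i • tv x + j • tv y)) (vt (i • tv x + j • tv y)) =
        i * i * ip x x + 2 * (i * j * ip x y) + j * j * ip y y := by
      simp only [ip, vt, tv, Pi.add_apply, Pi.smul_apply, smul_eq_mul]
      simp
      ring
    have h7 : ip x x ≤ i * i * ip x x := le_mul_of_one_le_left (by omega) (mul_pos hi hi)
    have h8 : ip y y ≤ j * j * ip y y := le_mul_of_one_le_left (by omega) (mul_pos hj hj)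
    have h9 : ip x y ≤ i * j * ip x y := le_mul_of_one_le_left h3 (mul_pos hi hj)
    omega

open Cfsg.Agent.H296.FFour in
theorem dc (hp : IsType chevF4 4 CoxeterMatrix.F₄) :
    DC CoxeterMatrix.F₄.toCoxeterSystem hp.isCartan (XX chevF4 4 (KK 2)) := by
  have := finite_W hp CoxeterMatrix.F₄.toCoxeterSystem
  intro a b ha hb h0 u hu v hv
  obtain ⟨r, hr, rfl⟩ := (isRoot_iff hp _ _).1 ha
  obtain ⟨s, hs, rfl⟩ := (isRoot_iff hp _ _).1 hb
  rw [vec_tv hr, vec_tv hs, cpr_tv hp _ _ (getD_mem r hr)] at h0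
  rcases nz_tab r hr s hs h0 with h | h
  · exact comm_nz hp 2 hr hs h hu hv
  · have key : ∀ r < 48, ∀ u ∈ XX chevF4 4 (KK 2) (vec chevF4 4 r), al (KK 2) u ∈ XX chevF4 4 (KK 2) (vec chevF4 4 (br r)) := by
      intro r hr u hu
      obtain ⟨t, ht⟩ := (LangThm.mem_XX_vec hp hr).1 hu
      have e : u = H79.SimpleGen.xS hp4.inList r t := Subtype.ext ht
      rw [e, al_xS hr]
      exact (LangThm.mem_XX_vec hp (tab r hr).1).2 ⟨_, rfl⟩
    apply (al (KK 2)).injective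
    rw [map_mul, map_mul]
    exact comm_nz hp 2 (tab r hr).1 (tab s hs).1 h (key r hr u hu) (key s hs v hv)

end Four

/-! ### `E₆` -/

namespace Six

open Cfsg.Agent.SB.Exc.W

/-- the weights of a module of dimension `27` -/
def WL : List T6 :=
  [(-1, -1, 1, 0, 0, 0), (-1, 0, 0, 0, 0, 1), (-1, 0, 0, 0, 1, -1), (-1, 0, 0, 1, -1, 0), (-1, 0, 1, 0, 0, 0),
   (-1, 1, 1, -1, 0, 0), (0, -1, -1, 1, 0, 0), (0, -1, 0, 0, 1, 0), (0, -1, 0, 1, -1, 1), (0, -1, 0, 1, 0, -1),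
   (0, 0, -1, 1, 0, 0), (0, 0, 0, -1, 1, 0), (0, 0, 0, 0, -1, 1), (0, 0, 0, 0, 0, -1), (0, 0, 1, -1, 0, 1),
   (0, 0, 1, -1, 1, -1), (0, 0, 1, 0, -1, 0), (0, 1, -1, 0, 0, 0), (0, 1, 0, -1, 1, 0), (0, 1, 0, 0, -1, 1),
   (0, 1, 0, 0, 0, -1), (1, -1, 0, 0, 0, 0), (1, 0, -1, 0, 0, 1), (1, 0, -1, 0, 1, -1), (1, 0, -1, 1, -1, 0),
   (1, 0, 0, 0, 0, 0), (1, 1, 0, -1, 0, 0)]

theorem wl_tab : ∀ i : Fin 6, ∀ m ∈ WL, m - tv m i • co (vt (sr i)) ∈ WL := by decide +kernel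

/-- the values of the weights -/
def vals (a b c : T6) : List (ℤ × ℤ × ℤ) := WL.map fun m => (dt a m, dt b m, dt c m)

/-- asymmetry of the weights on `A₂ + A₁` -/
def chk3 : Bool := SL.all fun a => (fl (-1) a RL).all fun b => (fl 0 b (fl 0 a RL)).all fun c =>
  ((vals a b c).contains (1, 0, 1) && !(vals a b c).contains (-1, 0, -1)) ||
    ((vals a b c).contains (0, 1, 1) && !(vals a b c).contains (0, -1, -1))

theorem chk3_eq : chk3 = true := by decide +kernel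

/-- orthogonal roots exist -/
def chk4 : Bool := SL.all fun a => !(fl 0 a RL).isEmpty && (fl 0 a RL).all fun b => !(fl 0 b (fl 0 a RL)).isEmpty

theorem chk4_eq : chk4 = true := by decide +kernel

variable {W : Type*} [Group W] [Finite W] (hp : IsType chevE6 6 CoxeterMatrix.E₆) (cs : CoxeterSystem CoxeterMatrix.E₆ W)

theorem wl_rep (w : W) : ∀ m ∈ WL, ∃ m' ∈ WL, ∀ x, dt (vt (rep cs hp.isCartan w x)) m = dt (vt x) m' := by
  obtain ⟨ω, rfl⟩ := cs.wordProd_surjective w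
  induction ω with
  | nil => exact fun m hm => ⟨m, hm, fun x => by rw [wordProd_nil, map_one]; rfl⟩
  | cons i ω ih =>
    intro m hm
    obtain ⟨m', hm', h⟩ := ih _ (wl_tab i m hm)
    refine ⟨m', hm', fun x => ?_⟩
    rw [wordProd_cons, rep_mul_apply, ← h, rep_simple_eq]
    generalize rep cs hp.isCartan (cs.wordProd ω) x = z
    simp only [CoxeterGeom.pairing, cartan_eq, Fin.sum_univ_six, dt, vt, tv, co, sr]
    fin_cases i <;> simp <;> ring

theorem inv (w : W) (a b c : Fin 6 → ℤ) (ha : IsRoot cs hp.isCartan a) (hb : IsRoot cs hp.isCartan b)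
    (hc : IsRoot cs hp.isCartan c) (hab : cpr cs hp.isCartan a b = -1) (hca : cpr cs hp.isCartan c a = 0)
    (hcb : cpr cs hp.isCartan c b = 0) :
    ¬ (rep cs hp.isCartan w a = -a ∧ rep cs hp.isCartan w b = -b ∧ rep cs hp.isCartan w c = -c) := by
  rw [cpr_comm hp cs hc ha] at hca
  rw [cpr_comm hp cs hc hb] at hcb
  obtain ⟨v, a, ha', rfl⟩ := exists_sl hp cs ha
  obtain ⟨b, hb', rfl⟩ := exists_tv hp cs v hb
  obtain ⟨c, hc', rfl⟩ := exists_tv hp cs v hc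
  rw [cpr_w hp cs v _ hb'] at hab
  rw [cpr_w hp cs v _ hc'] at hca hcb
  rintro ⟨h1, h2, h3⟩
  have key : ∀ x : T6, rep cs hp.isCartan w (rep cs hp.isCartan v (tv x)) = -rep cs hp.isCartan v (tv x) →
      ∀ m m' : T6, (∀ x, dt (vt (rep cs hp.isCartan (v⁻¹ * w * v) x)) m = dt (vt x) m') → dt x m' = -dt x m := by
    intro x hx m m' h
    have h4 := h (tv x)
    rw [rep_mul_apply, rep_mul_apply, hx, map_neg, rep_inv_apply] at h4
    have h5 : dt (vt (-tv x)) m = -dt x m := by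
      simp only [dt, vt, tv, Pi.neg_apply]
      simp
      ring
    exact h4.symm.trans h5
  have h4 : ∀ t ∈ vals a b c, -t ∈ vals a b c := by
    intro t ht
    obtain ⟨m, hm, rfl⟩ := List.mem_map.1 ht
    obtain ⟨m', hm', h⟩ := wl_rep hp cs (v⁻¹ * w * v) m hm
    exact List.mem_map.2 ⟨m', hm', by rw [key a h1 m m' h, key b h2 m m' h, key c h3 m m' h]; rfl⟩
  have h5 := List.all_eq_true.1 (List.all_eq_true.1 (List.all_eq_true.1 chk3_eq a ha') b (mem_fl.2 ⟨hb', hab⟩)) c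
    (mem_fl.2 ⟨mem_fl.2 ⟨hc', hca⟩, hcb⟩)
  simp only [Bool.or_eq_true, Bool.and_eq_true, Bool.not_eq_true', List.contains_eq_mem, decide_eq_true_eq,
    decide_eq_false_iff_not] at h5
  rcases h5 with ⟨h6, h7⟩ | ⟨h6, h7⟩
  · exact h7 (h4 _ h6)
  · exact h7 (h4 _ h6)

theorem one_orth {a : Fin 6 → ℤ} (ha : IsRoot cs hp.isCartan a) :
    ∃ d, IsRoot cs hp.isCartan d ∧ cpr cs hp.isCartan a d = 0 := by
  obtain ⟨w, a, ha', rfl⟩ := exists_sl hp cs ha
  have h1 := List.all_eq_true.1 chk4_eq a ha'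
  rw [Bool.and_eq_true, Bool.not_eq_true', List.isEmpty_eq_false_iff_exists_mem] at h1
  obtain ⟨d, hd⟩ := h1.1
  rw [mem_fl] at hd
  exact ⟨_, root_w hp cs w hd.1, by rw [cpr_w hp cs w _ hd.1, hd.2]⟩

theorem two_orth {a b : Fin 6 → ℤ} (ha : IsRoot cs hp.isCartan a) (hb : IsRoot cs hp.isCartan b)
    (hab : cpr cs hp.isCartan a b = 0) :
    ∃ d, IsRoot cs hp.isCartan d ∧ cpr cs hp.isCartan a d = 0 ∧ cpr cs hp.isCartan b d = 0 := by
  obtain ⟨w, a, ha', rfl⟩ := exists_sl hp cs ha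
  obtain ⟨b, hb', rfl⟩ := exists_tv hp cs w hb
  rw [cpr_w hp cs w _ hb'] at hab
  have h1 := List.all_eq_true.1 chk4_eq a ha'
  rw [Bool.and_eq_true] at h1
  have h2 := List.all_eq_true.1 h1.2 b (mem_fl.2 ⟨hb', hab⟩)
  rw [Bool.not_eq_true', List.isEmpty_eq_false_iff_exists_mem] at h2
  obtain ⟨d, hd⟩ := h2
  simp only [mem_fl] at hd
  exact ⟨_, root_w hp cs w hd.1.1, by rw [cpr_w hp cs w _ hd.1.1, hd.1.2], by rw [cpr_w hp cs w _ hd.1.1, hd.2]⟩

theorem exists_fun (a b c d : Fin 6 → ℤ) :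
    ∃ f : (Fin 6 → ℤ) →+ ℤ, f ≠ 0 ∧ f a = 0 ∧ f b = 0 ∧ f c = 0 ∧ f d = 0 := by
  by_contra hcon
  have h1 : Function.Injective (Matrix.mulVecLin (Matrix.of ![a, b, c, d])) := by
    rw [injective_iff_map_eq_zero]
    intro m hm
    by_contra h0
    refine hcon ⟨AddMonoidHom.mk' (fun x => x ⬝ᵥ m) fun x y => add_dotProduct x y m, fun h => h0 ?_, congrFun hm 0,
      congrFun hm 1, congrFun hm 2, congrFun hm 3⟩
    exact dotProduct_self_eq_zero.1 (DFunLike.congr_fun h m)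
  have h2 := LinearMap.finrank_le_finrank_of_injective h1
  simp at h2

theorem e6c : E6C cs hp.isCartan where
  symm _ _ ha hb := cpr_comm hp cs ha hb
  orth P hr hn ho hP := by
    have hne : ∀ {r a b : Fin 6 → ℤ}, IsRoot cs hp.isCartan r → a ∈ P → b ∈ P → cpr cs hp.isCartan a r = 0 →
        cpr cs hp.isCartan r b ≠ 0 → cpr cs hp.isCartan a b = 0 := by
      intro r a b h1 ha hb h2 h3
      rw [cpr_comm hp cs (hr a ha) h1] at h2
      rcases ho a ha b hb with e | e | e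
      · exact absurd (e ▸ h2) h3
      · exact absurd (by rw [e, cpr_neg_right _ _ _ (hr a ha), h2, neg_zero]) h3
      · rwa [cpr_comm hp cs (hr a ha) (hr b hb)]
    obtain ⟨a, ha, -⟩ := hP _ (isRoot_sr cs hp.isCartan 0)
    obtain ⟨r₁, q₁, a₁⟩ := one_orth hp cs (hr a ha)
    obtain ⟨b, hb, b₁⟩ := hP _ q₁
    have hab := hne q₁ ha hb a₁ b₁
    obtain ⟨r₂, q₂, a₂, b₂⟩ := two_orth hp cs (hr a ha) (hr b hb) hab
    obtain ⟨c, hc, c₂⟩ := hP _ q₂
    have hac := hne q₂ ha hc a₂ c₂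
    have hbc := hne q₂ hb hc b₂ c₂
    obtain ⟨r₃, q₃, a₃, b₃, c₃⟩ := three_orth hp cs (hr a ha) (hr b hb) (hr c hc) hab hac hbc
    obtain ⟨d, hd, d₃⟩ := hP _ q₃
    have had := hne q₃ ha hd a₃ d₃
    have hbd := hne q₃ hb hd b₃ d₃
    have hcd := hne q₃ hc hd c₃ d₃
    have s := fun {x y} (hx : x ∈ P) (hy : y ∈ P) => cpr_comm hp cs (hr x hx) (hr y hy)
    have ne : ∀ {x y}, x ∈ P → cpr cs hp.isCartan x y = 0 → x ≠ y := by
      rintro x _ hx h rfl
      rw [cpr_self _ _ (hr x hx)] at h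
      omega
    constructor
    · obtain ⟨f, f0, fa, fb, fc, fd⟩ := exists_fun a b c d
      refine ⟨f, f0, fun e he => ?_⟩
      by_contra h0
      have key : ∀ x ∈ P, f x = 0 → cpr cs hp.isCartan x e = 0 := by
        intro x hx fx
        rcases ho x hx e he with h | h | h
        · exact absurd (h ▸ fx) h0
        · exact absurd (by rw [h, map_neg, fx, neg_zero]) h0
        · rwa [s hx he]
      exact five_orth hp cs (hr a ha) (hr b hb) (hr c hc) (hr d hd) (hr e he) hab hac had (key a ha fa) hbc hbd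
        (key b hb fb) hcd (key c hc fc) (key d hd fd)
    · obtain ⟨r, q, e⟩ := four_orth hp cs (hr a ha) (hr b hb) (hr c hc) (hr d hd) hab hac had hbc hbd hcd
      have key : ∀ x ∈ P, cpr cs hp.isCartan x r + cpr cs hp.isCartan x r = cpr cs hp.isCartan a x +
          cpr cs hp.isCartan b x + cpr cs hp.isCartan c x + cpr cs hp.isCartan d x := by
        intro x hx
        rw [cpr_comm hp cs (hr x hx) q, ← cpr_add _ _ _ _ (hr x hx), e, cpr_add _ _ _ _ (hr x hx),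
          cpr_add _ _ _ _ (hr x hx), cpr_add _ _ _ _ (hr x hx)]
      have k1 := key a ha
      have k2 := key b hb
      have k3 := key c hc
      rw [cpr_self _ _ (hr a ha), s hb ha, s hc ha, s hd ha, hab, hac, had] at k1
      rw [cpr_self _ _ (hr b hb), s hc hb, s hd hb, hab, hbc, hbd] at k2
      rw [cpr_self _ _ (hr c hc), s hd hc, hac, hbc, hcd] at k3
      exact ⟨a, ha, b, hb, c, hc, d, hd, r, q, by rw [two_smul, e], by omega, by omega, by omega, ne ha hab, ne ha hac,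
        ne hb hbc⟩
  perp a b ha hb hab := by
    obtain ⟨a₁, b₁, a₂, b₂, h⟩ := a2_triple hp cs ha hb hab
    exact ⟨b₁, a₁, h.rb₁, h.ra₁, h.a₁b₁, (cpr_comm hp cs h.rb₁ ha).trans h.ab₁, (cpr_comm hp cs h.rb₁ hb).trans h.bb₁,
      (cpr_comm hp cs h.ra₁ ha).trans h.aa₁, (cpr_comm hp cs h.ra₁ hb).trans h.ba₁⟩
  inv := inv hp cs

end Six

/-- **[MC]** -/
theorem boxMC : BoxMC where
  dc D l M hp hD p _ h2 := by
    rcases hD with rfl | rfl | rfl | rfl
    · obtain ⟨rfl, e⟩ := Sigma.mk.inj_iff.1 (type_of hp hpF4 (Or.inl rfl))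
      obtain rfl := eq_of_heq e
      obtain rfl := h2 rfl
      exact Four.dc hp
    · obtain ⟨rfl, e⟩ := Sigma.mk.inj_iff.1 (type_of hp hpE6 (Or.inr (Or.inl rfl)))
      obtain rfl := eq_of_heq e
      exact dc_sl hp p W.ne4 W.ne6
    · obtain ⟨rfl, e⟩ := Sigma.mk.inj_iff.1 (type_of hp hpE7 (Or.inr (Or.inr (Or.inl rfl))))
      obtain rfl := eq_of_heq e
      exact dc_sl hp p ne4_E7 ne6_E7
    · obtain ⟨rfl, e⟩ := Sigma.mk.inj_iff.1 (type_of hp hpE8 (Or.inr (Or.inr (Or.inr rfl))))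
      obtain rfl := eq_of_heq e
      exact dc_sl hp p ne4_E8 ne6_E8
  ir D l M hp hD := by
    rcases hD with rfl | rfl | rfl | rfl
    · exact ir_of hp n3_F4
    · exact ir_of hp n3_E6
    · exact ir_of hp n3_E7
    · exact ir_of hp n3_E8
  f4 l M hp := by
    obtain ⟨rfl, e⟩ := Sigma.mk.inj_iff.1 (type_of hp hpF4 (Or.inl rfl))
    obtain rfl := eq_of_heq e
    have := finite_W hp CoxeterMatrix.F₄.toCoxeterSystem
    exact Four.f4c hp _
  e6 l M hp := by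
    obtain ⟨rfl, e⟩ := Sigma.mk.inj_iff.1 (type_of hp hpE6 (Or.inr (Or.inl rfl)))
    obtain rfl := eq_of_heq e
    have := finite_W hp CoxeterMatrix.E₆.toCoxeterSystem
    exact Six.e6c hp _

end Cfsg.Agent.SB.Exc.Frm
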