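import Cfsg.Agent.SB.Exc.Frm.Pre
import Cfsg.Agent.DS.Ex.ExtE6
import Cfsg.Agent.DL.Ex.Tw
import Cfsg.Agent.H696.GmnToral
import Cfsg.Agent.S1062
import Cfsg.Agent.S1063
import Cfsg.Agent.S1064
import Cfsg.Agent.S1065
import Cfsg.Agent.S1066
import Cfsg.Agent.S2122
import Cfsg.Agent.S2123
import Cfsg.Agent.S2124
import Cfsg.Agent.S2125
import Cfsg.Agent.S2130

/-!
# S5765, exceptional groups: the frames exist (helper56)

`boxFrmF4`, `boxFrmE6`, `boxFrmE7`, `boxFrmE8`, `boxFrm2E6`.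
-/

set_option autoImplicit false
set_option linter.unusedSectionVars false

namespace Cfsg.Agent.SB.Exc.Frm

open CoxeterSystem Cfsg Cfsg.Lie Cfsg.Lie.ChevalleyDatum
open Cfsg.Agent.ChevalleyStructure Cfsg.Agent.ChevalleyStructure.Elts Cfsg.Agent.ChevalleyStructure.CoxeterGeom
  Cfsg.Agent.ChevalleyStructure.CoxeterGeomTypes Cfsg.Agent.ChevalleyStructure.NPerm
open Cfsg.Agent.Tits.Roots Cfsg.Agent.Tits.Core Cfsg.Agent.Nodes Cfsg.Agent.Nodes.Reps Cfsg.Agent.Nodes.BNOf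
  Cfsg.Agent.Nodes.RGDChev Cfsg.Agent.Nodes.Bruhat
open Cfsg.Agent.KFacts.RgdField Cfsg.Agent.KFacts.RgdChevCoord
open Cfsg.Agent.BpExc Cfsg.Agent.BpExc.FamField Cfsg.Agent.BpExc.TorCent Cfsg.Agent.BpExc.TorChev Cfsg.Agent.BpExc.Tow
  Cfsg.Agent.BpExc.TowChev Cfsg.Agent.BpExc.Fr Cfsg.Agent.BpExc.LangFr Cfsg.Agent.GpExc.Field
  Cfsg.Agent.BpExc.FamExt Cfsg.Agent.BpExc.FamUntw Cfsg.Agent.BpExc.FamInst
open Cfsg.Agent.H469.Exc Cfsg.Agent.H469.Exc.SigFr
open Cfsg.Agent.ChevalleyStructure.SignedSymm Cfsg.Agent.ChevalleyStructure.GraphSymm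
open Cfsg.Agent.H316.U6 Cfsg.Agent.DS.Ex Cfsg.Agent.DS.Ex.Untw

variable {D : ChevalleyDatum} {l : ℕ} {M : CoxeterMatrix (Fin l)} {p : ℕ} [Fact p.Prime]

/-! ### generalities -/

theorem e_eq {hp : IsType D l M} {q n : ℕ} {K : Type} [Group K] (m : MData hp p q K) (h : q = p ^ n) : m.e = n :=
  Nat.pow_right_injective (Fact.out : p.Prime).two_le (m.hq.trans h)

theorem card_fix_le {Y S : Type} [Group Y] [Group S] {σ : MulAut Y} {T : Subgroup Y} {ι : S →* Y} {d d' : ℕ}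
    (O : DL.Ex.Over σ ⊤ T ι d) (hd : 0 < d') (h : O.hom.range.index ∣ d') : Nat.card (DL.fix σ) ≤ d' * Nat.card S := by
  have h1 := O.card_eq
  have h2 : DL.GF σ ⊤ = DL.fix σ := top_inf_eq _
  rw [← h2, h1, mul_comm]
  exact Nat.mul_le_mul_right _ (Nat.le_of_dvd hd h)

theorem card_fix_le_one {Y S : Type} [Group Y] [Group S] {σ : MulAut Y} {T : Subgroup Y} {ι : S →* Y}
    (O : DL.Ex.Over σ ⊤ T ι 1) : Nat.card (DL.fix σ) ≤ 1 * Nat.card S := by
  have h1 := Nat.card_congr O.equiv.toEquiv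
  rw [DL.GF, top_inf_eq] at h1
  rw [h1, one_mul]

theorem phi_eq (hD : InList D) (n : ℕ) : phi D (KK p) p n = DL.Ex.frobA hD p n :=
  (eq_phi p fun _ => rfl).symm

theorem psi_pow {ψ : MulAut (YY D p)} {κ : ℕ} (h : ψ ^ κ = phi D (KK p) p 1) (n : ℕ) :
    phi D (KK p) p n = ψ ^ ((κ * n : ℕ) : ℤ) := by
  rw [zpow_natCast, pow_mul, h, phi_pow, one_mul]

theorem sm_phi (hp : IsType D l M) : Sm hp p (phi D (KK p) p 1) :=
  sm_of_fr (phi_isFrob p 1) (phi_fr hp _ p (locFin p) 1)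

theorem center_of_ext {hp : IsType D l M} {q : ℕ} {K : Type} [Group K] {m : MData hp p q K}
    {A : Subgroup (MulAut (YY D p))} (h : Ext m A) (y : K) (hy : ∀ x, y * x = x * y) : y = 1 := by
  apply m.inj
  rw [map_one]
  exact h.cent _ fun x => by rw [← map_mul, ← map_mul, hy]

/-- **Untwisted groups without the graph automorphism of `E₆`.** -/
theorem pre_untw (hp : IsType D l M) (hD : D ∈ [chevF4, chevE6, chevE7, chevE8]) (hl : 0 < l) (F : Type) [Field F]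
    [Fintype F] [CharP F p] {d : ℕ} {B : Fin l → Fin l → ℤ} (hB : InvC D l d B) (hB' : H129.TorusChar.InvC D l d B)
    (hd : d = 1 ∨ (D = chevE7 ∧ d = 2)) (ψ : MulAut (YY D p)) (κ : ℕ)
    (hκ : κ = 1 ∨ (D = chevF4 ∧ p = 2 ∧ κ = 2)) (hψ : ψ ^ κ = phi D (KK p) p 1) (hw : WFr hp p ψ) (hw' : WFr hp p ψ⁻¹)
    (hs : (D = chevF4 → p ≠ 2) → SFr hp p ψ) (hsm : Sm hp p ψ)
    (hg : ∀ (f : F →+* KK p) (g : MulAut ↥(D.group F)), D.IsGraphAut g →
      g = 1 ∨ ∀ a, emb hp.inList f (g a) = ψ (emb hp.inList f a)) {c : ℕ}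
    (hfix : ∀ (_ : F →+* KK p) (n : ℕ), Fintype.card F = p ^ n →
      Nat.card (DL.fix (DL.Ex.frobA (k := KK p) hp.inList p n)) ≤ Nat.gcd d (p ^ n - 1) * Nat.card (D.group F))
    (hout : ∀ n : ℕ, Fintype.card F = p ^ n → Nat.card (Out ↥(D.group F)) = Nat.gcd d (p ^ n - 1) * (κ * n))
    (hdM : d ≤ dM l) (hord : ordU l (Fintype.card F) = c * Nat.card (D.group F)) (hc : c ≤ dM l) :
    HasFrm hp p ↥(D.group F) := by
  have hd0 : d ≠ 0 := by rcases hd with h | ⟨-, h⟩ <;> omega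
  have hd1 : d = 1 ∨ d.Prime := by
    rcases hd with h | ⟨-, h⟩
    · exact Or.inl h
    · exact Or.inr (h ▸ Nat.prime_two)
  obtain ⟨f⟩ := RowsUntw.exists_emb p F
  obtain ⟨n, hn0, hn⟩ := exists_card (F := F) p
  obtain ⟨m, hι, hσ, hmg, hdd⟩ := H28.GenF.mdata_std' (r := p) hp F hB' hd0 hd1 f hn0 hn
  rw [Nat.card_eq_fintype_card] at hn
  have he : m.e = n := e_eq m hn
  have hψA : ψ ∈ Subgroup.closure ({1, ψ} : Set (MulAut (YY D p))) := Subgroup.subset_closure (by simp)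
  have hphi : ∀ j, phi D (KK p) p j ∈ Subgroup.closure ({1, ψ} : Set (MulAut (YY D p))) := fun j => by
    rw [psi_pow hψ]
    exact zpow_mem hψA _
  have hE : Ext m (Subgroup.closure {1, ψ}) := by
    refine ⟨hσ ▸ hphi n, ?_, ?_, ?_, ?_, ?_, ?_⟩
    · have h1 : Subgroup.closure ({1, ψ} : Set (MulAut (YY D p))) ≤
          Subgroup.centralizer (Subgroup.closure ({1, ψ} : Set (MulAut (YY D p))) : Set (MulAut (YY D p))) := by
        rw [Subgroup.closure_le, Subgroup.centralizer_closure]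
        rintro x (rfl | rfl) y (rfl | rfl)
        · rfl
        · rw [one_mul, mul_one]
        · rw [one_mul, mul_one]
        · rfl
      exact fun β hβ β' hβ' => h1 hβ' β hβ
    · have h1 : Subgroup.closure ({1, ψ} : Set (MulAut (YY D p))) ≤ WF hp p := by
        rw [Subgroup.closure_le]
        rintro x (rfl | rfl)
        · exact one_mem _
        · exact ⟨hw, hw'⟩
      exact fun β hβ => (h1 hβ).1
    · intro h
      have h1 : Subgroup.closure ({1, ψ} : Set (MulAut (YY D p))) ≤ SF hp p := by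
        rw [Subgroup.closure_le]
        rintro x (rfl | rfl)
        · exact one_mem _
        · exact hs h
      exact fun β hβ => h1 hβ
    · intro α
      obtain ⟨x, δ, g, φ, h1, h2, h3, h4⟩ := H79.Steinberg.exists_fac hp.inList α
      obtain ⟨τ, rfl⟩ := H296.ESixGF.eq_fld hp h3
      obtain ⟨j, hj⟩ := exists_pow_eq p τ
      obtain ⟨t, -, ht⟩ := H296.Core.diag_ext hp f hB hd0
        (fun c _ => IsAlgClosed.exists_pow_nat_eq (f c) (Nat.pos_of_ne_zero hd0)) h1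
      have h5 : ∀ a, emb hp.inList f (CpAut.RgdUntw.fld D τ a) = phi D (KK p) p j (emb hp.inList f a) := fun a =>
        (FamExt.fld_emb hp f (fun a => by rw [frb_apply, hj, map_pow]) a).symm
      rw [hι]
      rcases hg f g h2 with h6 | h6
      · refine ⟨emb hp.inList f x * t, _, hphi j, fun a => ?_⟩
        rw [h4, map_mul, map_mul, map_inv, ht, h6, MulAut.one_apply, h5]
        group
      · refine ⟨emb hp.inList f x * t, _, mul_mem hψA (hphi j), fun a => ?_⟩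
        rw [h4, map_mul, map_mul, map_inv, ht, h6, h5, MulAut.mul_apply]
        group
    · rw [hι]
      exact fun y hy => eq_one_of_comm hp (locFin p) p f (center_YY hD) hy
    · rw [hdd]
      rcases hd with h | ⟨h, h'⟩
      · exact Or.inl (by rw [h, Nat.gcd_one_left])
      · subst h'
        rcases (Nat.dvd_prime Nat.prime_two).1 (Nat.gcd_dvd_left 2 (Fintype.card F - 1)) with h1 | h1
        · exact Or.inl h1
        · exact Or.inr (Or.inr ⟨h, h1⟩)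
  have hf := hfix f n hn
  rw [← phi_eq, ← hσ] at hf
  refine Pre.hasFrm (m := m) (τ := 1) (ψ := ψ) (κ := κ) ⟨hl, hκ, one_mul _, by rw [one_mul, mul_one], hψ, Or.inl ?_, hE,
    IsFrob.one, Or.inl rfl, hsm, ⟨1, Or.inl fun a => ?_⟩, Or.inl ⟨rfl, ?_⟩, ?_, ?_⟩
  · rw [hσ, he, psi_pow hψ]
  · rw [hmg, map_one]; rfl
  · rw [card_aut (center_of_ext hE), hout n hn, he, mul_right_comm]
    exact Nat.mul_le_mul_right _ hf
  · exact hf.trans (Nat.mul_le_mul_right _ ((Nat.gcd_le_left _ (Nat.pos_of_ne_zero hd0)).trans hdM))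
  · rw [hord]
    exact Nat.mul_le_mul_right _ hc

theorem pre_nograph (hp : IsType D l M) (hD : D ∈ [chevF4, chevE6, chevE7, chevE8]) (hl : 0 < l) (F : Type) [Field F]
    [Fintype F] [CharP F p] {d : ℕ} {B : Fin l → Fin l → ℤ} (hB : InvC D l d B) (hB' : H129.TorusChar.InvC D l d B)
    (hd : d = 1 ∨ (D = chevE7 ∧ d = 2)) (hg : ∀ g : MulAut ↥(D.group F), D.IsGraphAut g → g = 1) {c : ℕ}
    (hfix : ∀ (_ : F →+* KK p) (n : ℕ), Fintype.card F = p ^ n →
      Nat.card (DL.fix (DL.Ex.frobA (k := KK p) hp.inList p n)) ≤ Nat.gcd d (p ^ n - 1) * Nat.card (D.group F))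
    (hout : ∀ n : ℕ, Fintype.card F = p ^ n → Nat.card (Out ↥(D.group F)) = Nat.gcd d (p ^ n - 1) * (1 * n))
    (hdM : d ≤ dM l) (hord : ordU l (Fintype.card F) = c * Nat.card (D.group F)) (hc : c ≤ dM l) :
    HasFrm hp p ↥(D.group F) :=
  pre_untw hp hD hl F hB hB' hd _ 1 (Or.inl rfl) (pow_one _) (sfr_wfr (sfr_phi hp 1)) (sfr_wfr (sfr_inv (sfr_phi hp 1)))
    (fun _ => sfr_phi hp 1) (sm_phi hp) (fun _ g h => Or.inl (hg g h)) hfix hout hdM hord hc

/-! ### `E₈`, `E₇`, `F₄` -/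

theorem boxFrmE8 : BoxFrmE8 := by
  intro p _ F _ _ _
  refine pre_nograph (c := 1) hpE8 (by simp) (by norm_num) F inv_E8 inv_E8 (Or.inl rfl)
    (fun g => eq_one_of_symm hpE8.inList fun _ => H79.DiagSymm.eq_one_E8) (fun f n hn => ?_) (fun n hn => ?_)
    (by decide) ?_ (by decide)
  · rw [Nat.gcd_one_left]
    exact card_fix_le_one (DL.Ex.over_E8 f hn hpE8)
  · rw [S2125.result p n hn, Nat.gcd_one_left, one_mul, one_mul]
  · rw [S1065.result rfl]
    simp [ordU, nP, degs, mul_assoc]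

theorem boxFrmE7 : BoxFrmE7 := by
  intro p _ F _ _ _
  refine pre_nograph (c := Nat.gcd 2 (Fintype.card F - 1)) hpE7 (by simp) (by norm_num) F inv_E7 inv_E7
    (Or.inr ⟨rfl, rfl⟩) (fun g => eq_one_of_symm hpE7.inList fun _ => H79.DiagSymm.eq_one_E7) (fun f n hn => ?_)
    (fun n hn => ?_) (by decide) ?_ (Nat.gcd_le_left _ two_pos)
  · exact card_fix_le _ (Nat.gcd_pos_of_pos_left _ two_pos) (DL.Ex.index_dvd_E7 f hn hpE7)
  · rw [S2124.result p n hn, one_mul]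
  · rw [S1064.result rfl]
    simp [ordU, nP, degs, mul_assoc]

open Cfsg.Agent.H296.FFour in
theorem sm_al : Sm hpF4 2 (al (KK 2)) := by
  have h1 : ∀ a < chevF4.nroots, ∃ s, Act hpF4.inList (al (KK 2)) a s := fun a ha => ⟨_, act_al ha⟩
  refine ⟨fun t ht => mem_TT_of_act h1 ht, fun a => vec chevF4 4 (br (idx chevF4 4 a)),
    fun a => if la (idx chevF4 4 a) = 1 then 0 else 1, fun a ha => ?_, fun a ha => ?_, fun b hb => ?_⟩
  · obtain ⟨r, hr, rfl⟩ := (isRoot_iff hpF4 _ _).1 ha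
    beta_reduce
    rw [idx_vec hpF4 hr]
    exact isRoot_vec hpF4 _ (tab r hr).1
  · obtain ⟨r, hr, rfl⟩ := (isRoot_iff hpF4 _ _).1 ha
    refine ⟨1, one_ne_zero, fun u => ?_⟩
    beta_reduce
    rw [idx_vec hpF4 hr, DL.Ex.xc_vec hpF4 hr, DL.Ex.xc_vec hpF4 (tab r hr).1, one_mul]
    refine (al_xS hr u).trans ?_
    rcases (tabN r hr).2.2.2 with h | h
    · rw [if_pos h, h, pow_zero]; rfl
    · rw [if_neg (by omega), h, pow_one]; rfl
  · obtain ⟨r, hr, rfl⟩ := (isRoot_iff hpF4 _ _).1 hb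
    refine ⟨vec chevF4 4 (br r), isRoot_vec hpF4 _ (tab r hr).1, ?_⟩
    beta_reduce
    rw [idx_vec hpF4 (tab r hr).1, (tab r hr).2.1]

open Cfsg.Agent.H296.FFour in
theorem boxFrmF4 : BoxFrmF4 := by
  intro p _ F _ _ _
  have hfix : ∀ (_ : F →+* KK p) (n : ℕ), Fintype.card F = p ^ n →
      Nat.card (DL.fix (DL.Ex.frobA (k := KK p) hpF4.inList p n)) ≤ Nat.gcd 1 (p ^ n - 1) * Nat.card (chevF4.group F) := by
    intro f n hn
    rw [Nat.gcd_one_left]
    exact card_fix_le_one (DL.Ex.over_F4 f hn hpF4)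
  have hord : ordU 4 (Fintype.card F) = 1 * Nat.card (chevF4.group F) := by
    rw [S1062.result rfl]
    simp [ordU, nP, degs, mul_assoc]
  by_cases h2 : p = 2
  · subst h2
    have : ExpChar F 2 := ExpChar.prime Nat.prime_two
    have : PerfectRing F 2 := PerfectRing.ofFiniteOfIsReduced 2 F
    have h1 : ∀ a < chevF4.nroots, ∃ s, Act hpF4.inList (al (KK 2)) a s := fun a ha => ⟨_, act_al ha⟩
    have h3 : ∀ s < chevF4.nroots, ∃ a, Act hpF4.inList (al (KK 2)) a s := fun s hs => ⟨br s, by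
      have h4 := act_al (tab s hs).1
      rwa [(tab s hs).2.1] at h4⟩
    refine pre_untw (p := 2) hpF4 (by simp) (by norm_num) F FamInst.inv_F4 FamInst.inv_F4 (Or.inl rfl) (al (KK 2)) 2
      (Or.inr ⟨rfl, rfl, rfl⟩) (by rw [pow_two]; exact al_sq)
      (wfr_of_act hpF4 h1 h3) (wfr_of_act hpF4 (fun a ha => (h3 a ha).imp fun _ h => h.inv)
        fun a ha => (h1 a ha).imp fun _ h => h.inv) (fun h => absurd rfl (h rfl)) sm_al (fun f g hg => ?_) hfix
      (fun n hn => ?_) (by decide) hord (by decide)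
    · by_cases hg1 : g = 1
      · exact Or.inl hg1
      · rw [eq_al hg hg1]
        exact Or.inr fun a => ((gam_F4 f).nat a).symm
    · rw [S2122.result 2 n hn, Nat.gcd_one_left, one_mul, Nat.gcd_self]
  · refine pre_nograph hpF4 (by simp) (by norm_num) F FamInst.inv_F4 FamInst.inv_F4 (Or.inl rfl) (fun g => graph_F4 h2)
      hfix (fun n hn => ?_) (by decide) hord (by decide)
    rw [S2122.result p n hn, Nat.gcd_one_left, one_mul,
      (Nat.coprime_primes Nat.prime_two (Fact.out : p.Prime)).2 (Ne.symm h2)]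

/-! ### `E₆`, `²E₆` -/

theorem rep_word (hp : IsType D l M) (ω : List (Fin l)) {r : ℕ} (hr : r < D.nroots) :
    ω.foldr (fun i s => D.reflectRoot i s) r < D.nroots ∧
      rep M.toCoxeterSystem hp.isCartan (M.toCoxeterSystem.wordProd ω) (vec D l r) =
        vec D l (ω.foldr (fun i s => D.reflectRoot i s) r) := by
  induction ω with
  | nil => exact ⟨hr, by rw [wordProd_nil, map_one]; rfl⟩
  | cons j ω ih =>
    exact ⟨reflectRoot_lt hp.inList (lt_rank hp j) ih.1, by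
      rw [wordProd_cons, rep_mul_apply, ih.2, rep_vec hp _ j ih.1]; rfl⟩

/-- a word for the longest element -/
def w6 : List (Fin 6) :=
  [0, 2, 3, 4, 5, 1, 3, 4, 2, 3, 1, 0, 2, 3, 4, 5, 1, 3, 4, 2, 3, 0, 2, 1, 3, 4, 2, 3, 0, 2, 1, 3, 0, 2, 1, 0]

theorem w6_tab : ∀ i : Fin 6, w6.foldr (fun i s => chevE6.reflectRoot i s) (chevE6.simple i) =
    chevE6.neg (chevE6.simple (H522.FamTw.Frame.rho6 i)) := by decide +kernel

theorem perm_eq_neg : ∃ w, ∀ a, H522.FamTw.Frame.permE H522.FamTw.Frame.rho6 a =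
    -rep CoxeterMatrix.E₆.toCoxeterSystem hpE6.isCartan w a := by
  obtain ⟨w, hw⟩ : ∃ w, ∀ i : Fin 6, rep CoxeterMatrix.E₆.toCoxeterSystem hpE6.isCartan w (sr i) =
      -sr (H522.FamTw.Frame.rho6 i) := ⟨_, fun i => by
    have h2 := (rep_word hpE6 w6 (simple_lt hpE6.inList (lt_rank hpE6 i))).2
    rwa [w6_tab, vec_neg hpE6 (simple_lt hpE6.inList (lt_rank hpE6 _)), vec_simple hpE6, vec_simple hpE6] at h2⟩
  refine ⟨w, fun a => ?_⟩
  have hsr : ∀ i : Fin 6, H522.FamTw.Frame.permE H522.FamTw.Frame.rho6 (sr i) =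
      (sr (H522.FamTw.Frame.rho6 i) : Fin 6 → ℤ) := by decide
  have h1 : (H522.FamTw.Frame.permE H522.FamTw.Frame.rho6).toAddMonoidHom.toIntLinearMap =
      -rep CoxeterMatrix.E₆.toCoxeterSystem hpE6.isCartan w := by
    refine (Pi.basisFun ℤ (Fin 6)).ext fun i => ?_
    rw [Pi.basisFun_apply]
    rw [LinearMap.neg_apply]
    exact (hsr i).trans (neg_eq_iff_eq_neg.2 (hw i)).symm
  exact LinearMap.congr_fun h1 a

theorem fr_uniq (hp : IsType D l M) {β : MulAut (YY D p)} {g g' : (Fin l → ℤ) ≃+ (Fin l → ℤ)}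
    (F : Fr M.toCoxeterSystem hp.isCartan (TT D (KK p)) (XX D l (KK p)) β g)
    (F' : Fr M.toCoxeterSystem hp.isCartan (TT D (KK p)) (XX D l (KK p)) β g') (a : Fin l → ℤ) : g a = g' a := by
  have h1 : g.toAddMonoidHom.toIntLinearMap = g'.toAddMonoidHom.toIntLinearMap := by
    refine (Pi.basisFun ℤ (Fin l)).ext fun i => ?_
    rw [Pi.basisFun_apply]
    show g (sr i) = g' (sr i)
    have h2 := isRoot_sr M.toCoxeterSystem hp.isCartan i
    obtain ⟨u, hu, hu1⟩ := H696.GmnToral.XX_ne (k := KK p) hp _ h2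
    exact H696.GmnToral.XX_injective hp _ (locFin p) p ((F.root _).2 h2) ((F'.root _).2 h2)
      ((map_ne_one_iff β β.injective).2 hu1) ((F.map _ h2 u).2 hu) ((F'.map _ h2 u).2 hu)
  exact LinearMap.congr_fun h1 a

open Cfsg.Agent.DS.Ex.Six Cfsg.Agent.BpExc.FamTw.Gr
open Cfsg.Agent.ChevalleyStructure.TwE6Basic (hE6)

theorem pre_six {q : ℕ} {K : Type} [Group K] (m : MData hpE6 p q K) (hE : Ext m (AA p))
    (hσ : m.σ = phi chevE6 (KK p) p m.e ∨ m.σ = gr hE6 symmE6 * phi chevE6 (KK p) p m.e) {d c : ℕ}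
    (hfix : Nat.card (DL.fix m.σ) ≤ d * Nat.card K) (hout : Nat.card (Out K) = 2 * d * m.e) (hd : d ≤ 3)
    (hord : ordU 6 q ≤ c * Nat.card K) (hc : c ≤ 3) : HasFrm hpE6 p K := by
  obtain ⟨w, hw⟩ := perm_eq_neg
  have hF := H522.FamTw.Frame.fr_six (k := KK p) hpE6 CoxeterMatrix.E₆.toCoxeterSystem
  have hP := phi_fr hpE6 CoxeterMatrix.E₆.toCoxeterSystem p (locFin p) m.e
  refine Pre.hasFrm (m := m) (τ := gr hE6 symmE6) (ψ := phi chevE6 (KK p) p 1) (κ := 1) ⟨by norm_num, Or.inl rfl, ?_,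
    gr_mul_fld hE6 symmE6 _, pow_one _, ?_, hE, H522.FamTw.Frame.gr_isFrob symmE6 hE6 p, Or.inr ⟨rfl, _, w, hF, hw⟩,
    sm_phi hpE6, ?_, Or.inr ?_, hfix.trans (Nat.mul_le_mul_right _ hd), hord.trans (Nat.mul_le_mul_right _ hc)⟩
  · rw [← pow_two]
    exact H522.FamTw.Frame.gr_sq6 hE6
  · exact hσ.imp (fun h => by rw [h, psi_pow (pow_one _)]) fun h => by rw [h, psi_pow (pow_one _) m.e]
  · rcases hσ with h | h
    · exact ⟨1, Or.inl fun a => by rw [fr_uniq hpE6 m.fr (h ▸ hP) a, map_one]; rfl⟩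
    · exact ⟨w, Or.inr ⟨rfl, fun a => (fr_uniq hpE6 m.fr (h ▸ hF.mul hP) a).trans (hw a)⟩⟩
  · rw [card_aut (center_of_ext hE), hout]
    calc _ ≤ d * Nat.card K * (2 * (1 * m.e)) := Nat.mul_le_mul_right _ hfix
      _ = _ := by ring

theorem boxFrmE6 : BoxFrmE6 := by
  intro p _ F _ _ _
  obtain ⟨f⟩ := RowsUntw.exists_emb p F
  obtain ⟨n, hn0, hn⟩ := exists_card (F := F) p
  obtain ⟨m, h1, h2, -, h4⟩ := H28.GenF.mdata_std' (r := p) hpE6 F H129.TorusChar.invC_E6 three_ne_zero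
    (Or.inr Nat.prime_three) f hn0 hn
  rw [Nat.card_eq_fintype_card] at hn
  have he : m.e = n := e_eq m hn
  refine pre_six (d := Nat.gcd 3 (p ^ n - 1)) (c := Nat.gcd 3 (Fintype.card F - 1)) m
    ⟨?_, AA_comm p, fun β hβ => AA_wfr p hβ, fun _ β hβ => AA_sfr p hβ, ?_, ?_, ?_⟩ (Or.inl (he ▸ h2)) ?_ ?_
    (Nat.gcd_le_left _ three_pos) ?_ (Nat.gcd_le_left _ three_pos)
  · rw [h2]
    exact phi_mem p n
  · rw [h1]
    exact ext_untw p f
  · rw [h1]
    exact fun y hy => FamUntw.eq_one_of_comm hpE6 (locFin p) p f (center_six _) hy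
  · rw [h4]
    rcases gcd_three (Fintype.card F - 1) with h | h
    · exact Or.inl h
    · exact Or.inr (Or.inl ⟨rfl, h⟩)
  · rw [h2, phi_eq hpE6.inList]
    exact card_fix_le _ (Nat.gcd_pos_of_pos_left _ three_pos) (DL.Ex.index_dvd_E6 f hn hpE6)
  · rw [S2123.result p n hn, he]
  · rw [S1063.result rfl]
    simp [ordU, nP, degs, mul_assoc]

theorem boxFrm2E6 : BoxFrm2E6 := by
  intro p _ K _ _ _ q hq hK
  obtain ⟨f⟩ := RowsUntw.exists_emb p K
  obtain ⟨n, hn0, hn⟩ := exists_eq_pow (r := p) hq hK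
  obtain ⟨φ, hφ, hqq⟩ := TwE6Basic.exists_frob hq hK
  obtain ⟨m, h1, h2, h4⟩ := mdata_tw p hq hK f hn0 hn
  have he : m.e = n := e_eq m hn
  refine pre_six (d := Nat.gcd 3 (p ^ n + 1)) (c := Nat.gcd 3 (q + 1)) m
    ⟨?_, AA_comm p, fun β hβ => AA_wfr p hβ, fun _ β hβ => AA_sfr p hβ, ?_, ?_, ?_⟩ (Or.inr (he ▸ h2)) ?_ ?_
    (Nat.gcd_le_left _ three_pos) ?_ (Nat.gcd_le_left _ three_pos)
  · rw [h2]
    exact mul_mem (gr_mem p) (phi_mem p n)
  · rw [h1]
    intro α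
    have hW : Finite CoxeterMatrix.F₄.Group := RGDChev.finite_W hpF4 CoxeterMatrix.F₄.toCoxeterSystem
    have hΦ : ∀ a, frb (KK p) p n (f a) = f (φ a) := by
      intro a
      rw [frb_apply, hφ, map_pow, hn]
    obtain ⟨a, τ, y, -, -, hy⟩ := FamTw.Six.exists_lift hφ hqq CoxeterMatrix.F₄.toCoxeterSystem p f hK hq.one_lt
      (fun a => IsAlgClosed.exists_pow_nat_eq (f a) (by norm_num)) hΦ α
    obtain ⟨j, hj⟩ := exists_pow_eq p τ
    exact ⟨y, _, phi_mem p j, fun x => by rw [hy, H522.FamTw.Six.em_st f p hj]⟩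
  · rw [h1]
    exact fun y hy => H522.FamTw.Six.eq_one_of_comm hφ hqq f y hy
  · rw [h4]
    rcases gcd_three (q + 1) with h | h
    · exact Or.inl h
    · exact Or.inr (Or.inl ⟨rfl, h⟩)
  · subst hn
    have h5 : m.σ = DL.Ex.sigS p DL.Ex.hp6.inList symmE6 n := by
      rw [h2, phi_eq DL.Ex.hp6.inList]
      exact MulEquiv.ext fun _ => Subtype.ext rfl
    rw [h5]
    exact card_fix_le _ (Nat.gcd_pos_of_pos_left _ three_pos) (DL.Ex.index_dvd_2E6 f hn0 hK)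
  · subst hn
    rw [S2130.result p n (by rw [hK, ← pow_mul, mul_comm]) hn0, he]
  · rw [S1066.result hq hK]
    simp only [ordU, nP, degs, List.map_cons, List.map_nil, List.prod_cons, List.prod_nil, mul_one, mul_assoc,
      Nat.reduceEqDiff, if_false, if_true]
    gcongr <;> omega

end Cfsg.Agent.SB.Exc.Frm
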