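import Cfsg.Agent.SB.Exc.Defs
import Cfsg.Agent.DS.Ex.ExtU
import Cfsg.Prelude.Def_KGroupFacts

/-!
# S5765, exceptional groups: frames from two commuting automorphisms `τ`, `ψ` (helper56)

`τ ^ 2 = 1`, `ψ ^ κ` is the `p`-Frobenius map, `σ = τ ^ ε ψ ^ (κ e)`, every automorphism of the finite group is induced by
`conj y * τ ^ i * ψ ^ n`.  The kernel of `π` is computed by counting against the order of the outer automorphism group.

* `Sm` : automorphisms which permute the root groups and normalise the torus;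
* `Dg` : the degree;
* `Pre.hasFrm`.
-/

set_option autoImplicit false
set_option linter.unusedSectionVars false

namespace Cfsg.Agent.SB.Exc.Frm

open CoxeterSystem Cfsg Cfsg.Lie Cfsg.Lie.ChevalleyDatum
open Cfsg.Agent.ChevalleyStructure Cfsg.Agent.ChevalleyStructure.Elts Cfsg.Agent.ChevalleyStructure.CoxeterGeom
  Cfsg.Agent.ChevalleyStructure.CoxeterGeomTypes
open Cfsg.Agent.Tits.Roots Cfsg.Agent.Tits.Core Cfsg.Agent.Nodes Cfsg.Agent.Nodes.Reps Cfsg.Agent.Nodes.BNOf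
  Cfsg.Agent.Nodes.RGDChev Cfsg.Agent.Nodes.Bruhat
open Cfsg.Agent.KFacts.RgdField Cfsg.Agent.KFacts.RgdChevCoord
open Cfsg.Agent.BpExc Cfsg.Agent.BpExc.TorCent Cfsg.Agent.BpExc.TorChev Cfsg.Agent.BpExc.Tow
  Cfsg.Agent.BpExc.TowChev Cfsg.Agent.BpExc.Fr Cfsg.Agent.BpExc.LangFr Cfsg.Agent.BpExc.FamUntw
  Cfsg.Agent.BpExc.FamInst
open Cfsg.Agent.H469.Exc Cfsg.Agent.H316.U6 Cfsg.Agent.H129.TorusChar Cfsg.Agent.DS.Ex

/-- a relation which is total, injective and whose target is not larger than the source is a function -/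
theorem uniq_of_card {A P : Type*} [Finite P] (R : A → P → Prop) (hex : ∀ a, ∃ x, R a x)
    (hinj : ∀ a a' x, R a x → R a' x → a = a') (hc : Nat.card P ≤ Nat.card A) {a : A} {x x' : P} (h : R a x)
    (h' : R a x') : x = x' := by
  classical
  choose f hf using hex
  have h1 : ∀ b, R b (Function.update f a x b) := by
    intro b
    by_cases hb : b = a
    · rw [hb, Function.update_self]; exact h
    · rw [Function.update_of_ne hb]; exact hf b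
  have h2 : Function.Injective (Function.update f a x) := fun b b' e => hinj b b' _ (h1 b) (e ▸ h1 b')
  obtain ⟨b, hb⟩ := (h2.bijective_of_nat_card_le hc).2 x'
  have h3 : b = a := hinj b a x' (hb ▸ h1 b) h'
  rw [← hb, h3, Function.update_self]

/-! ### the degree -/

section Deg

variable {Y : Type} [Group Y] {τ ψ : MulAut Y}

/-- `β = τ ^ i * ψ ^ n` -/
def Bt (τ ψ β : MulAut Y) (n : ℤ) : Prop := β = ψ ^ n ∨ β = τ * ψ ^ n

/-- `φ = conj y * τ ^ i * ψ ^ n` -/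
def Dg (τ ψ φ : MulAut Y) (n : ℤ) : Prop := ∃ (y : Y) (β : MulAut Y), Bt τ ψ β n ∧ φ = MulAut.conj y * β

theorem mul_conj' (y : Y) (β : MulAut Y) : β * MulAut.conj y = MulAut.conj (β y) * β := by
  apply MulEquiv.ext
  intro x
  show β (y * x * y⁻¹) = β y * β x * (β y)⁻¹
  rw [map_mul, map_mul, map_inv]

theorem Bt.dg {β : MulAut Y} {n : ℤ} (h : Bt τ ψ β n) : Dg τ ψ β n := ⟨1, β, h, by rw [map_one, one_mul]⟩

theorem bt_one : Bt τ ψ 1 0 := Or.inl (zpow_zero ψ).symm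

variable (h2 : τ * τ = 1) (hc : τ * ψ = ψ * τ)
include h2 hc

theorem Bt.mul {β β' : MulAut Y} {n n' : ℤ} (h : Bt τ ψ β n) (h' : Bt τ ψ β' n') : Bt τ ψ (β * β') (n + n') := by
  have h1 : ψ ^ n * τ = τ * ψ ^ n := ((show Commute τ ψ from hc).zpow_right n).eq.symm
  rcases h with rfl | rfl <;> rcases h' with rfl | rfl
  · exact Or.inl (zpow_add ψ n n').symm
  · exact Or.inr (by rw [← mul_assoc, h1, zpow_add, mul_assoc])
  · exact Or.inr (by rw [zpow_add, mul_assoc])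
  · exact Or.inl (by rw [mul_assoc, ← mul_assoc (ψ ^ n), h1, ← mul_assoc, ← mul_assoc, h2, one_mul, zpow_add])

theorem Bt.inv {β : MulAut Y} {n : ℤ} (h : Bt τ ψ β n) : Bt τ ψ β⁻¹ (-n) := by
  have h1 : ψ ^ (-n) * τ = τ * ψ ^ (-n) := ((show Commute τ ψ from hc).zpow_right (-n)).eq.symm
  rcases h with rfl | rfl
  · exact Or.inl (zpow_neg ψ n).symm
  · exact Or.inr (by rw [mul_inv_rev, ← zpow_neg, inv_eq_of_mul_eq_one_right h2, h1])

theorem Bt.pow {β : MulAut Y} {n : ℤ} (h : Bt τ ψ β n) (k : ℕ) : Bt τ ψ (β ^ k) (k * n) := by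
  induction k with
  | zero => rw [pow_zero, Nat.cast_zero, zero_mul]; exact bt_one
  | succ k ih => rw [pow_succ, Nat.cast_succ, add_mul, one_mul]; exact ih.mul h2 hc h

theorem Bt.zpow {β : MulAut Y} {n : ℤ} (h : Bt τ ψ β n) (k : ℤ) : Bt τ ψ (β ^ k) (k * n) := by
  obtain ⟨j, rfl | rfl⟩ := Int.eq_nat_or_neg k
  · rw [zpow_natCast]; exact h.pow h2 hc j
  · rw [zpow_neg, zpow_natCast, neg_mul]; exact (h.pow h2 hc j).inv h2 hc

theorem bt_of_mem {β : MulAut Y} (h : β ∈ Subgroup.closure ({τ, ψ} : Set (MulAut Y))) : ∃ n, Bt τ ψ β n := by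
  induction h using Subgroup.closure_induction with
  | mem β hβ =>
    rcases hβ with rfl | rfl
    · exact ⟨0, Or.inr (by rw [zpow_zero, mul_one])⟩
    · exact ⟨1, Or.inl (zpow_one _).symm⟩
  | one => exact ⟨0, bt_one⟩
  | mul β β' _ _ h h' =>
    obtain ⟨n, h⟩ := h
    obtain ⟨n', h'⟩ := h'
    exact ⟨_, h.mul h2 hc h'⟩
  | inv β _ h =>
    obtain ⟨n, h⟩ := h
    exact ⟨_, h.inv h2 hc⟩

theorem Dg.mul {φ φ' : MulAut Y} {n n' : ℤ} (h : Dg τ ψ φ n) (h' : Dg τ ψ φ' n') : Dg τ ψ (φ * φ') (n + n') := by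
  obtain ⟨y, β, hβ, rfl⟩ := h
  obtain ⟨y', β', hβ', rfl⟩ := h'
  refine ⟨y * β y', β * β', hβ.mul h2 hc hβ', ?_⟩
  rw [map_mul, mul_assoc, ← mul_assoc β, mul_conj']
  simp only [mul_assoc]

theorem Dg.inv {φ : MulAut Y} {n : ℤ} (h : Dg τ ψ φ n) : Dg τ ψ φ⁻¹ (-n) := by
  obtain ⟨y, β, hβ, rfl⟩ := h
  exact ⟨β⁻¹ y⁻¹, β⁻¹, hβ.inv h2 hc, by rw [mul_inv_rev, ← map_inv, mul_conj']⟩

theorem Dg.pow {φ : MulAut Y} {n : ℤ} (h : Dg τ ψ φ n) (k : ℕ) : Dg τ ψ (φ ^ k) (k * n) := by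
  induction k with
  | zero => rw [pow_zero, Nat.cast_zero, zero_mul]; exact bt_one.dg
  | succ k ih => rw [pow_succ, Nat.cast_succ, add_mul, one_mul]; exact ih.mul h2 hc h

/-- reduction modulo `σ` -/
theorem Bt.red {σ β : MulAut Y} {N : ℕ} (hN : 0 < N) (hσ : Bt τ ψ σ N) {n : ℤ} (h : Bt τ ψ β n) :
    ∃ (j : Fin N) (k : ℤ), β = ψ ^ (j : ℕ) * σ ^ k ∨ β = τ * ψ ^ (j : ℕ) * σ ^ k := by
  have h1 := h.mul h2 hc ((hσ.zpow h2 hc (n / N)).inv h2 hc)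
  have h3 : 0 ≤ n % N := Int.emod_nonneg _ (by omega)
  have h4 : n % N < N := Int.emod_lt_of_pos _ (by omega)
  have h5 : n + -(n / N * N) = ((n % N).toNat : ℕ) := by
    rw [Int.toNat_of_nonneg h3, Int.emod_def]; ring
  rw [h5] at h1
  refine ⟨⟨(n % N).toNat, by omega⟩, n / N, h1.imp (fun e => ?_) fun e => ?_⟩
  · rw [zpow_natCast] at e
    exact mul_inv_eq_iff_eq_mul.1 e
  · rw [zpow_natCast] at e
    exact mul_inv_eq_iff_eq_mul.1 e

end Deg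

/-! ### automorphisms permuting the root groups -/

variable {D : ChevalleyDatum} {l : ℕ} {M : CoxeterMatrix (Fin l)} (hp : IsType D l M) (p : ℕ) [Fact p.Prime]

/-- `β` normalises the torus and permutes the root groups, acting by powers of the Frobenius map -/
def Sm (β : MulAut (YY D p)) : Prop :=
  (∀ t ∈ TT D (KK p), β t ∈ TT D (KK p)) ∧ ∃ (g : (Fin l → ℤ) → (Fin l → ℤ)) (ex : (Fin l → ℤ) → ℕ),
    (∀ a, IsRoot M.toCoxeterSystem hp.isCartan a → IsRoot M.toCoxeterSystem hp.isCartan (g a)) ∧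
    (∀ a, IsRoot M.toCoxeterSystem hp.isCartan a →
      ∃ c : KK p, c ≠ 0 ∧ ∀ u, β (xc hp a u) = xc hp (g a) (c * u ^ p ^ ex a)) ∧
    ∀ b, IsRoot M.toCoxeterSystem hp.isCartan b → ∃ a, IsRoot M.toCoxeterSystem hp.isCartan a ∧ g a = b

variable {hp p}

theorem sm_of_fr {e : ℕ} {β : MulAut (YY D p)} {g : (Fin l → ℤ) ≃+ (Fin l → ℤ)} (hβ : IsFrob p e β)
    (F : Fr M.toCoxeterSystem hp.isCartan (TT D (KK p)) (XX D l (KK p)) β g) : Sm hp p β :=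
  ⟨fun t ht => (F.tor t).2 ht, g, fun _ => e, fun a ha => (F.root a).2 ha, fun _ ha => HX.fr_xc hp _ hβ F ha,
    fun b hb => ⟨g.symm b, (F.root _).1 (by rwa [AddEquiv.apply_symm_apply]), g.apply_symm_apply b⟩⟩

theorem Sm.mul {β β' : MulAut (YY D p)} (h : Sm hp p β) (h' : Sm hp p β') : Sm hp p (β * β') := by
  obtain ⟨h1, g, ex, h2, h3, h4⟩ := h
  obtain ⟨h1', g', ex', h2', h3', h4'⟩ := h'
  refine ⟨fun t ht => h1 _ (h1' t ht), fun a => g (g' a), fun a => ex' a + ex (g' a), fun a ha => h2 _ (h2' a ha),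
    fun a ha => ?_, fun b hb => ?_⟩
  · obtain ⟨c', hc', e'⟩ := h3' a ha
    obtain ⟨c, hc, e⟩ := h3 _ (h2' a ha)
    refine ⟨c * c' ^ p ^ ex (g' a), mul_ne_zero hc (pow_ne_zero _ hc'), fun u => ?_⟩
    rw [MulAut.mul_apply, e', e, mul_pow, pow_add, pow_mul, mul_assoc]
  · obtain ⟨a, ha, rfl⟩ := h4 b hb
    obtain ⟨a', ha', rfl⟩ := h4' a ha
    exact ⟨a', ha', rfl⟩

theorem Sm.pow {β : MulAut (YY D p)} (h : Sm hp p β) (n : ℕ) : Sm hp p (β ^ n) := by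
  induction n with
  | zero => rw [pow_zero]; exact sm_of_fr IsFrob.one Fr.one
  | succ n ih => rw [pow_succ]; exact ih.mul h

theorem Sm.sem {β : MulAut (YY D p)} (h : Sm hp p β) : ∃ g ex Mx, Sem hp p β g ex Mx := by
  obtain ⟨h1, g, ex, h2, h3, h4⟩ := h
  choose b hb hgb using fun i : Fin l => h4 (sr i) (isRoot_sr _ _ i)
  exact ⟨g, ex, _, h2, h3, DL.Ex.F_tau hp _ h3 h1 hb hgb⟩

include hp in
theorem not_isFrob_one {n : ℕ} (hn : 0 < n) (hl : 0 < l) : ¬ IsFrob p n (1 : MulAut (YY D p)) := by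
  intro h
  have h1 := Sig.finite_fixed (locFin p) hn h
  obtain ⟨r, hr, e⟩ := (isRoot_iff hp M.toCoxeterSystem _).1 (isRoot_sr M.toCoxeterSystem hp.isCartan ⟨0, hl⟩)
  have h2 : Finite (KK p) := Finite.of_injective
    (fun u : KK p => (⟨xc hp (vec D l r) u, rfl⟩ : ↥(fixedSubgroup (1 : MulAut (YY D p)))))
    fun a b hab => xc_inj hp hr (congrArg Subtype.val hab)
  exact not_finite (KK p)

theorem fix_of_ext {q : ℕ} {K : Type} [Group K] {m : MData hp p q K} {A : Subgroup (MulAut (YY D p))} (h : Ext m A)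
    {α : MulAut K} {y : YY D p} {β : MulAut (YY D p)} (hβ : β ∈ A) (hy : ∀ x, m.ι (α x) = y * β (m.ι x) * y⁻¹) :
    m.σ y = y := by
  have h1 : ∀ x, (y⁻¹ * m.σ y) * β (m.ι x) = β (m.ι x) * (y⁻¹ * m.σ y) := by
    intro x
    have h3 := congrArg m.σ (hy x)
    rw [m.fix, hy, map_mul, map_mul, map_inv] at h3
    have h4 : m.σ (β (m.ι x)) = β (m.ι x) := by
      rw [← MulAut.mul_apply, h.comm _ h.mem _ hβ, MulAut.mul_apply, m.fix]
    rw [h4] at h3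
    calc y⁻¹ * m.σ y * β (m.ι x) = y⁻¹ * (m.σ y * β (m.ι x) * (m.σ y)⁻¹) * m.σ y := by group
      _ = y⁻¹ * (y * β (m.ι x) * y⁻¹) * m.σ y := by rw [h3]
      _ = _ := by group
  have h5 : β⁻¹ (y⁻¹ * m.σ y) = 1 := h.cent _ fun x => by
    apply β.injective
    rw [map_mul β, map_mul β, MulAut.apply_inv_self]
    exact h1 x
  have h6 : y⁻¹ * m.σ y = 1 := by
    have := congrArg β h5
    rwa [MulAut.apply_inv_self, map_one] at this
  exact (inv_mul_eq_one.1 h6).symm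

theorem card_aut {K : Type} [Group K] (h : ∀ y : K, (∀ x, y * x = x * y) → y = 1) :
    Nat.card (MulAut K) = Nat.card (Out K) * Nat.card K := by
  have h1 : Function.Injective (MulAut.conj : K →* MulAut K) := by
    rw [injective_iff_map_eq_one]
    intro y hy
    refine h y fun x => ?_
    have h2 : y * x * y⁻¹ = x := congrArg (fun β : MulAut K => β x) hy
    exact mul_inv_eq_iff_eq_mul.1 h2
  rw [Subgroup.card_eq_card_quotient_mul_card_subgroup (Inn K), Nat.card_congr (MonoidHom.ofInjective h1).toEquiv]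

/-- **The data from which the frame is built.** -/
structure Pre {q : ℕ} {K : Type} [Group K] (m : MData hp p q K) (τ ψ : MulAut (YY D p)) (κ : ℕ) : Prop where
  pos : 0 < l
  hκ : κ = 1 ∨ (D = chevF4 ∧ p = 2 ∧ κ = 2)
  sq : τ * τ = 1
  comm : τ * ψ = ψ * τ
  pow : ψ ^ κ = phi D (KK p) p 1
  hσ : Bt τ ψ m.σ ((κ * m.e : ℕ) : ℤ)
  ext : Ext m (Subgroup.closure {τ, ψ})
  frob : IsFrob p 0 τ
  tau : τ = 1 ∨ (D = chevE6 ∧ ∃ (g : (Fin l → ℤ) ≃+ (Fin l → ℤ)) (w : M.Group),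
    Fr M.toCoxeterSystem hp.isCartan (TT D (KK p)) (XX D l (KK p)) τ g ∧ ∀ a, g a = -rep M.toCoxeterSystem hp.isCartan w a)
  sm : Sm hp p ψ
  gW : ∃ w : M.Group, (∀ a, m.g a = rep M.toCoxeterSystem hp.isCartan w a) ∨
    (D = chevE6 ∧ ∀ a, m.g a = -rep M.toCoxeterSystem hp.isCartan w a)
  cnt : (τ = 1 ∧ Nat.card (DL.fix m.σ) * (κ * m.e) ≤ Nat.card (MulAut K)) ∨
    Nat.card (DL.fix m.σ) * (2 * (κ * m.e)) ≤ Nat.card (MulAut K)
  idx : Nat.card (DL.fix m.σ) ≤ dM l * Nat.card K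
  ord : ordU l q ≤ dM l * Nat.card K

namespace Pre

variable {q : ℕ} {K : Type} [Group K] {m : MData hp p q K} {τ ψ : MulAut (YY D p)} {κ : ℕ}

theorem congr (P : Pre m τ ψ κ) {K' : Type} [Group K'] (f : K' ≃* K) : Pre (m.congr f) τ ψ κ where
  pos := P.pos
  hκ := P.hκ
  sq := P.sq
  comm := P.comm
  pow := P.pow
  hσ := P.hσ
  ext := P.ext.congr f
  frob := P.frob
  tau := P.tau
  sm := P.sm
  gW := P.gW
  cnt := by
    rw [Nat.card_congr (MulAut.congr f).toEquiv]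
    exact P.cnt
  idx := by
    rw [Nat.card_congr f.toEquiv]
    exact P.idx
  ord := by
    rw [Nat.card_congr f.toEquiv]
    exact P.ord

variable (P : Pre m τ ψ κ)
include P

theorem κ_pos : 0 < κ := by
  rcases P.hκ with h | ⟨-, -, h⟩ <;> omega

theorem fr_tau : ∃ g, Fr M.toCoxeterSystem hp.isCartan (TT D (KK p)) (XX D l (KK p)) τ g := by
  rcases P.tau with h | ⟨-, g, -, h, -⟩
  · exact ⟨_, h ▸ Fr.one⟩
  · exact ⟨g, h⟩

theorem bt_frob {β : MulAut (YY D p)} {n : ℕ} (h : Bt τ ψ β (κ * n)) :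
    IsFrob p n β ∧ ∃ g, Fr M.toCoxeterSystem hp.isCartan (TT D (KK p)) (XX D l (KK p)) β g := by
  have h1 : ψ ^ ((κ : ℤ) * n) = phi D (KK p) p n := by
    rw [← Nat.cast_mul, zpow_natCast, pow_mul, P.pow, phi_pow, one_mul]
  obtain ⟨g, hg⟩ := P.fr_tau
  rcases h with rfl | rfl
  · rw [h1]
    exact ⟨phi_isFrob p n, _, phi_fr hp _ p (locFin p) n⟩
  · rw [h1]
    exact ⟨by simpa using P.frob.mul (phi_isFrob p n), _, hg.mul (phi_fr hp _ p (locFin p) n)⟩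

theorem dg_frob {φ : MulAut (YY D p)} {n : ℕ} (h : Dg τ ψ φ (κ * n)) : IsFrob p n φ ∧
    ∃ (y : YY D p) (g : (Fin l → ℤ) ≃+ (Fin l → ℤ)),
      Fr M.toCoxeterSystem hp.isCartan (TT D (KK p)) (XX D l (KK p)) (MulAut.conj y * φ) g := by
  obtain ⟨y, β, hβ, rfl⟩ := h
  obtain ⟨h1, g, h2⟩ := P.bt_frob hβ
  exact ⟨h1.conj_mul y, y⁻¹, g, by rwa [map_inv, inv_mul_cancel_left]⟩

theorem dg_one {n : ℤ} (h : Dg τ ψ 1 n) : n = 0 := by
  have key : ∀ j : ℕ, Dg τ ψ 1 j → j = 0 := by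
    intro j hj
    have h1 := hj.pow P.sq P.comm κ
    rw [one_pow] at h1
    by_contra h0
    exact not_isFrob_one (hp := hp) (Nat.pos_of_ne_zero h0) P.pos (P.dg_frob h1).1
  obtain ⟨j, rfl | rfl⟩ := Int.eq_nat_or_neg n
  · rw [key j h]; rfl
  · have h1 := h.inv P.sq P.comm
    rw [inv_one, neg_neg] at h1
    rw [key j h1]; rfl

theorem dg_uniq {φ : MulAut (YY D p)} {n n' : ℤ} (h : Dg τ ψ φ n) (h' : Dg τ ψ φ n') : n = n' := by
  have h1 := h.mul P.sq P.comm (h'.inv P.sq P.comm)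
  rw [mul_inv_cancel] at h1
  have := P.dg_one h1
  omega

theorem dg_pos {φ : MulAut (YY D p)} {n : ℤ} (h : Dg τ ψ φ n) (hn : 0 < n) :
    DL.Amb p (D.group (KK p)).subtype φ ∧ ∃ y g ex Mx, Sem hp p (MulAut.conj y * φ) g ex Mx := by
  obtain ⟨j, rfl⟩ := Int.eq_ofNat_of_zero_le hn.le
  have hj : 0 < j := by omega
  constructor
  · obtain ⟨d, hd, h1⟩ := Sig.exists_pow_frob (locFin p) (P.dg_frob (h.pow P.sq P.comm κ)).1
    exact ⟨DL.Ex.lf_of_locFin (locFin p), (D.group (KK p)).subtype_injective, κ * d, d * j, Nat.mul_pos P.κ_pos hd,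
      Nat.mul_pos hd hj, fun y => by rw [pow_mul]; exact h1 y⟩
  · obtain ⟨y, β, hβ, rfl⟩ := h
    obtain ⟨g, hg⟩ := P.fr_tau
    refine ⟨y⁻¹, ?_⟩
    rw [map_inv, inv_mul_cancel_left]
    rcases hβ with rfl | rfl
    · rw [zpow_natCast]
      exact (P.sm.pow j).sem
    · rw [zpow_natCast]
      exact ((sm_of_fr P.frob hg).mul (P.sm.pow j)).sem

theorem σ_zpow (k : ℤ) (x : K) : (m.σ ^ k) (m.ι x) = m.ι x := by
  have h1 : m.σ ∈ MulAction.stabilizer (MulAut (YY D p)) (m.ι x) := m.fix x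
  exact zpow_mem h1 k

/-- **The automorphisms `conj y * β` which centralise the finite group.** -/
theorem ker {y : YY D p} {β : MulAut (YY D p)} (hβ : β ∈ Subgroup.closure ({τ, ψ} : Set (MulAut (YY D p))))
    (h : ∀ x, y * β (m.ι x) * y⁻¹ = m.ι x) : MulAut.conj y * β ∈ Subgroup.zpowers m.σ := by
  have hN : 0 < κ * m.e := Nat.mul_pos P.κ_pos m.he
  have hfin : Finite ↥(DL.fix m.σ) := m.fin
  obtain ⟨t, ht0, ht, hc⟩ : ∃ t : ℕ, 0 < t ∧ (τ = 1 ∨ 1 < t) ∧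
      Nat.card (DL.fix m.σ) * (t * (κ * m.e)) ≤ Nat.card (MulAut K) := by
    rcases P.cnt with ⟨h1, h2⟩ | h2
    · exact ⟨1, one_pos, Or.inl h1, by rwa [one_mul]⟩
    · exact ⟨2, two_pos, Or.inr one_lt_two, h2⟩
  have hred : ∀ β ∈ Subgroup.closure ({τ, ψ} : Set (MulAut (YY D p))), ∃ (i : Fin t) (j : Fin (κ * m.e)) (k : ℤ),
      β = τ ^ (i : ℕ) * ψ ^ (j : ℕ) * m.σ ^ k := by
    intro β hβ
    obtain ⟨n, hn⟩ := bt_of_mem P.sq P.comm hβ
    obtain ⟨j, k, h1 | h1⟩ := Bt.red P.sq P.comm hN P.hσ hn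
    · exact ⟨⟨0, ht0⟩, j, k, by rw [h1, pow_zero, one_mul]⟩
    · rcases ht with h2 | h2
      · exact ⟨⟨0, ht0⟩, j, k, by rw [h1, pow_zero, h2]⟩
      · exact ⟨⟨1, h2⟩, j, k, by rw [h1, pow_one]⟩
  let R : MulAut K → ↥(DL.fix m.σ) × Fin t × Fin (κ * m.e) → Prop := fun α z =>
    ∀ x, m.ι (α x) = (z.1 : YY D p) * (τ ^ (z.2.1 : ℕ) * ψ ^ (z.2.2 : ℕ)) (m.ι x) * (z.1 : YY D p)⁻¹
  have hR : ∀ (α : MulAut K) (y : YY D p) (β : MulAut (YY D p)), β ∈ Subgroup.closure ({τ, ψ} : Set (MulAut (YY D p))) →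
      (∀ x, m.ι (α x) = y * β (m.ι x) * y⁻¹) → ∃ (hy : y ∈ DL.fix m.σ) (i : Fin t) (j : Fin (κ * m.e)) (k : ℤ),
        β = τ ^ (i : ℕ) * ψ ^ (j : ℕ) * m.σ ^ k ∧ R α (⟨y, hy⟩, i, j) := by
    intro α y β hβ hy
    obtain ⟨i, j, k, e⟩ := hred β hβ
    refine ⟨fix_of_ext P.ext hβ hy, i, j, k, e, fun x => ?_⟩
    show m.ι (α x) = y * (τ ^ (i : ℕ) * ψ ^ (j : ℕ)) (m.ι x) * y⁻¹
    rw [hy, e, MulAut.mul_apply, P.σ_zpow]
  obtain ⟨hy, i, j, k, e, h1⟩ := hR 1 y β hβ fun x => (h x).symm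
  have h2 : R 1 (1, ⟨0, ht0⟩, ⟨0, hN⟩) := fun x => by simp
  have h3 := uniq_of_card R (fun α => by
      obtain ⟨y, β, hβ, hy⟩ := P.ext.ext α
      obtain ⟨hy, i, j, -, -, h1⟩ := hR α y β hβ hy
      exact ⟨_, h1⟩)
    (fun α α' z h h' => MulEquiv.ext fun x => m.inj ((h x).trans (h' x).symm))
    (by rwa [Nat.card_prod, Nat.card_prod, Nat.card_fin, Nat.card_fin]) h1 h2
  obtain ⟨h4, h5⟩ := Prod.ext_iff.1 h3
  obtain ⟨h5, h6⟩ := Prod.ext_iff.1 h5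
  have h7 : y = 1 := congrArg Subtype.val h4
  have h8 : (i : ℕ) = 0 := congrArg Fin.val h5
  have h9 : (j : ℕ) = 0 := congrArg Fin.val h6
  rw [h7, e, h8, h9, map_one, pow_zero, pow_zero, one_mul, one_mul, one_mul]
  exact ⟨k, rfl⟩

end Pre

theorem Pre.xf {q : ℕ} {G : Type} [Group G] {T : Subgroup G} (hT : AS T) {m : MData hp p q T} {τ ψ : MulAut (YY D p)}
    {κ : ℕ} (P : Pre m τ ψ κ) : Nonempty (XF hp p q T) := by
  obtain ⟨L, h1, h2, h3⟩ := P.ext.exists_lift hT.normal hT.cent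
  have hΓ : ∀ φ : L.Γ, ∃ y : YY D p, ∃ β ∈ Subgroup.closure ({τ, ψ} : Set (MulAut (YY D p))),
      (φ : MulAut (YY D p)) = MulAut.conj y * β := fun φ => by
    have h4 : (φ : MulAut (YY D p)) ∈ Gam hT.normal m (Subgroup.closure {τ, ψ}) := by
      rw [← h3]
      exact φ.2
    exact h4.1
  have hex : ∀ φ : L.Γ, ∃ n, Dg τ ψ (φ : MulAut (YY D p)) n := fun φ => by
    obtain ⟨y, β, hβ, e⟩ := hΓ φ
    obtain ⟨n, hn⟩ := bt_of_mem P.sq P.comm hβ
    exact ⟨n, y, β, hn, e⟩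
  choose deg hdeg using hex
  have h0 : ∀ φ : L.Γ, deg φ = 0 → ∃ y : YY D p, (φ : MulAut (YY D p)) = MulAut.conj y ∨
      (φ : MulAut (YY D p)) = MulAut.conj y * τ := by
    intro φ h
    obtain ⟨y, β, hβ, e⟩ := hdeg φ
    rw [h] at hβ
    refine ⟨y, hβ.imp (fun h5 => ?_) fun h5 => ?_⟩
    · rw [e, h5, zpow_zero, mul_one]
    · rw [e, h5, zpow_zero, mul_one]
  refine ⟨{
    m := m
    A := _
    ext := P.ext
    L := L
    hσ := h1
    hι := h2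
    ker := fun φ hφ => ?_
    κ := κ
    hκ := P.hκ
    deg := deg
    deg_mul := fun φ φ' => P.dg_uniq (hdeg _) ((hdeg φ).mul P.sq P.comm (hdeg φ'))
    deg_σ := P.dg_uniq (hdeg _) (by
      have h4 := P.hσ.dg
      rwa [Nat.cast_mul, ← h1] at h4)
    frob := fun φ n h => P.dg_frob (h ▸ hdeg φ)
    pos := fun φ h => P.dg_pos (hdeg φ) h
    alg := fun φ h => ?_
    alg₂ := fun φ φ' h h' => ?_
    gW := P.gW
    idx := h1 ▸ P.idx
    ord := P.ord }⟩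
  · obtain ⟨y, β, hβ, e⟩ := hΓ φ
    rw [e, h1]
    refine P.ker hβ fun x => ?_
    have h4 := L.act φ x x (by rw [hφ, one_mul, inv_one, mul_one])
    rwa [e, h2] at h4
  · obtain ⟨y, e | e⟩ := h0 φ h
    · exact Or.inl ⟨y, e⟩
    · rcases P.tau with h4 | ⟨h4, g, w, h5, h6⟩
      · exact Or.inl ⟨y, by rw [e, h4, mul_one]⟩
      · exact Or.inr ⟨h4, y⁻¹, g, w, by rwa [e, map_inv, inv_mul_cancel_left], h6⟩
  · obtain ⟨y, e | e⟩ := h0 φ h
    · exact Or.inl ⟨y, e⟩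
    · obtain ⟨y', e' | e'⟩ := h0 φ' h'
      · exact Or.inr (Or.inl ⟨y', e'⟩)
      · refine Or.inr (Or.inr ⟨y * τ y', ?_⟩)
        rw [e, e', map_mul, mul_assoc, ← mul_assoc τ, mul_conj', mul_assoc, P.sq, mul_one]

theorem Pre.hasFrm {q : ℕ} {K : Type} [Group K] {m : MData hp p q K} {τ ψ : MulAut (YY D p)} {κ : ℕ}
    (P : Pre m τ ψ κ) : HasFrm hp p K := fun _ _ _ _ hT ⟨f⟩ => ⟨q, (P.congr f).xf hT⟩

end Cfsg.Agent.SB.Exc.Frm
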