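import Cfsg.Agent.SB.Exc.NT.Ind

/-!
# S5765, exceptional groups: the numerical part of the case of a maximal torus (helper56)

`fin_crit` : `BoxCrit` from the bounds `NumOK`; `ord_gt` : the socle is large.
-/

set_option autoImplicit false
set_option linter.unusedSectionVars false

namespace Cfsg.Agent.SB.Exc.Tor

open CoxeterSystem Cfsg Cfsg.Lie Cfsg.Lie.ChevalleyDatum
open Cfsg.Agent.ChevalleyStructure Cfsg.Agent.Nodes.RGDChev Cfsg.Agent.KFacts.RgdChevCoord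
open Cfsg.Agent.H469.Exc Cfsg.Agent.H316.U6 Cfsg.Agent.DS.Ex Cfsg.Agent.H786.FC

/-- the bounds for the inner-diagonal part of `F(S)` and for `S ⊓ T` -/
def NumOK (l p q f r : ℕ) : Prop :=
  (l = 4 ∧ p = 2 ∧ f ≤ 9*(q+1)^4 ∧ r ≤ 1152*(q+1)^4) ∨
  (l = 8 ∧ f ≤ 696729600*(q+1)^8 ∧ r ≤ 696729600*(q+1)^8) ∨
  (l = 6 ∧ 4 ≤ q ∧ f ≤ 51840*(q+1)^6 ∧ r ≤ 51840*(q+1)^6) ∨
  (l = 6 ∧ q = 3 ∧ f ≤ 5*4096 ∧ r ≤ 51840*4096) ∨
  (l = 6 ∧ q = 2 ∧ ((f ≤ 27*648 ∧ r ≤ 648) ∨ (f ≤ 343 ∧ r ≤ 343*648) ∨ (f ≤ 27*81 ∧ r ≤ 27*648)))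

/-- the numerical conditions of `crit_gen` -/
structure NumG (l a c n h q₀ : ℕ) : Prop where
  pos : 0 < q₀ ∧ 0 < a ∧ 0 < c
  even : l = 2 * h
  deg : n + 3 * l ≤ nP l + (degs l).sum ∧ 1 + 3 * l ≤ nP l + (degs l).sum ∧
    (nP l + h + 1) + 2 * l ≤ nP l + (degs l).sum
  hI : 2 * a * c * dM l * (q₀ ^ n * (q₀ + 1) ^ (3 * l)) ≤ ordU l q₀
  hG : 48 * c * c * (q₀ ^ 0 * (q₀ + 1) ^ (2 * l)) ≤ ordU l q₀
  hO : 16 * a * c * c * dM l * (q₀ ^ 1 * (q₀ + 1) ^ (3 * l)) ≤ ordU l q₀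
  hO' : 16 * a * c * dM l * 2 ^ l * (4 ^ (nP l + h + 1) * (4 + 1) ^ (2 * l)) ≤ ordU l 4

section

variable {D : ChevalleyDatum} {l : ℕ} {M : CoxeterMatrix (Fin l)} {hp : IsType D l M} {p : ℕ} [Fact p.Prime]
  {q : ℕ} {G : Type} [Group G] {T S : Subgroup G}

theorem two_le_q (F : XF hp p q T) : 2 ≤ q := by
  rw [← F.m.hq]
  exact (Fact.out : p.Prime).two_le.trans (Nat.le_self_pow F.m.he.ne' p)

theorem four_le_q (F : XF hp p q T) (h : q ≠ p) : 4 ≤ q := by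
  have h1 := F.m.hq
  have h2 := F.m.he
  have h3 := (Fact.out : p.Prime).two_le
  rw [← h1] at h ⊢
  refine (Nat.pow_le_pow_left h3 2).trans (Nat.pow_le_pow_right (by omega) ?_)
  by_contra h4
  exact h (by rw [show F.m.e = 1 by omega, pow_one])

theorem le_bI (hI : BoxCI) (hD : Typ D) (F : XF hp p q T) {y : YY D p} {c : G} (h : F.Ind y c)
    (h1 : (orderOf y).Prime) (h2 : orderOf y ≠ p) :
    Nat.card ↥(DL.fix F.L.σ ⊓ Subgroup.centralizer {y}) ≤ bI l p q := by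
  have h3 := hI D l M hp hD p F.m.e F.L.σ F.m.g F.m.he (by rw [F.hσ]; exact F.m.frob) (by rw [F.hσ]; exact F.m.fr) y
    (NT.ind_fix h) h1 h2
  rwa [F.m.hq] at h3

theorem card_le_one {X : Subgroup G} (h : X = ⊥) : Nat.card X ≤ 2 ^ 0 := by
  rw [h, Subgroup.card_bot, pow_zero]

variable [Finite G]

theorem crit_gen (hI : BoxCI) (hC : BoxCrit) (hD : Typ D) (C : Ctx p T S) (F : XF hp p q T)
    (h2 : D = chevE6 → p ≠ 2 → ∀ X : Subgroup G, X ≤ S ⊓ T → IsPGroup 2 X → Nm S X → X = ⊥) {a c n h q₀ : ℕ}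
    (N : NumG l a c n h q₀) (h0 : q₀ ≤ q) (hb : bI l p q = q ^ n * (q + 1) ^ l)
    (hf : Nat.card ↥(fit S ⊓ F.ID C.as.normal) ≤ a * (q + 1) ^ l) (hr : Nat.card ↥(S ⊓ T) ≤ c * (q + 1) ^ l) :
    FitReg T S := by
  obtain ⟨a1, a2, a3⟩ := N.pos
  have hq : 0 < q := a1.trans_le h0
  have hf0 : 0 < a * (q + 1) ^ l := by positivity
  have hr0 : 0 < c * (q + 1) ^ l := by positivity
  refine hC D l M hp hD p G T S C q F _ _ _ 0 (2 * (c * (q + 1) ^ l) * (a * (q + 1) ^ l)) (16 * (c * (q + 1) ^ l))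
    (16 * q * (c * (q + 1) ^ l) * (a * (q + 1) ^ l)) (by positivity) (by positivity) (by positivity) hf hr
    (fun _ _ y b1 b2 b3 => le_bI hI hD F b1 b2 b3) ?_
    (fun e e' => ⟨fun X b1 b2 b3 => card_le_one (h2 e e' X b1 b2 b3), ?_⟩) ?_ (fun h3 => ?_) ?_
  · have h3 := NT.scale a1 h0 N.deg.1 N.hI
    rw [hb]
    calc _ = _ := by ring
      _ ≤ _ := h3
  · have h3 := NT.scale a1 h0 (by have := N.deg.1; omega) N.hG
    calc _ = _ := by ring
      _ ≤ _ := h3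
  · have h3 := NT.scale a1 h0 N.deg.2.1 N.hO
    calc _ = _ := by ring
      _ ≤ _ := h3
  · have h4 := NT.scale (by norm_num) (four_le_q F h3) N.deg.2.2 N.hO'
    refine le_trans (le_of_eq ?_) (Nat.pow_le_pow_left h4 2)
    have h5 : q ^ (2 * nP l + l) = (q ^ (nP l + h)) ^ 2 := by
      rw [← pow_mul]
      congr 1
      have := N.even
      omega
    rw [h5, show 4 = 2 * 2 from rfl, mul_pow 2 2 l]
    ring
  · generalize a * (q + 1) ^ l = f at hf0 ⊢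
    generalize c * (q + 1) ^ l = r at hr0 ⊢
    have b1 : (0 : ℚ) < f := by exact_mod_cast hf0
    have b2 : (0 : ℚ) < r := by exact_mod_cast hr0
    have b3 : (0 : ℚ) < q := by exact_mod_cast hq
    have e : (r : ℚ) * (f / ((2 * r * f : ℕ) : ℚ) + 2 ^ 0 / ((16 * r : ℕ) : ℚ) + q * f / ((16 * q * r * f : ℕ) : ℚ)) =
        5 / 8 := by
      push_cast
      field_simp
      norm_num
    rw [e]
    norm_num

theorem numG4 : NumG 4 9 1152 18 2 2 := by
  constructor <;> decide +kernel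

theorem numG8 : NumG 8 696729600 696729600 128 4 2 := by
  constructor <;> decide +kernel

theorem numG6 : NumG 6 51840 51840 40 3 4 := by
  constructor <;> decide +kernel

theorem num63 : NT.Num 6 (5 * 4096) (51840 * 4096) 0 1 40 6 3 4 (2 * (51840 * 4096) * (5 * 4096))
    (16 * (51840 * 4096)) (16 * (51840 * 4096) * (5 * 4096)) := by
  constructor <;> decide +kernel

theorem num62a : NT.Num 6 (27 * 648) 648 0 1 40 6 2 4 87127488 (16 * 648) (16 * 648 * (27 * 648)) := by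
  constructor <;> decide +kernel

theorem num62b : NT.Num 6 343 (343 * 648) 0 1 40 6 2 4 87127488 (16 * (343 * 648)) (16 * (343 * 648) * 343) := by
  constructor <;> decide +kernel

theorem num62c : NT.Num 6 (27 * 81) (27 * 648) 0 1 40 6 2 4 87127488 (16 * (27 * 648))
    (16 * (27 * 648) * (27 * 81)) := by
  constructor <;> decide +kernel

theorem crit_six (hI : BoxCI) (hC : BoxCrit) {M : CoxeterMatrix (Fin 6)} {hp : IsType D 6 M} (hD : Typ D)
    (C : Ctx p T S) (F : XF hp p q T)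
    (h2 : D = chevE6 → p ≠ 2 → ∀ X : Subgroup G, X ≤ S ⊓ T → IsPGroup 2 X → Nm S X → X = ⊥)
    {f r q₀ mI mG mO : ℕ} (N : NT.Num 6 f r 0 1 40 6 q₀ 4 mI mG mO) (h0 : q₀ ≤ q)
    (hG : mG ^ (0 + 1) * (3 * r) ≤ ordU 6 3)
    (hf : Nat.card ↥(fit S ⊓ F.ID C.as.normal) ≤ f) (hr : Nat.card ↥(S ⊓ T) ≤ r) : FitReg T S :=
  NT.crit hC hD C F N h0 (four_le_q F) hf hr (fun _ _ y b1 b2 b3 => by
    have h3 := le_bI hI hD F b1 b2 b3
    rwa [show bI 6 p q = 1 * (q ^ 40 * (q + 1) ^ 6) by simp [bI]] at h3)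
    fun e e' => ⟨fun X b1 b2 b3 => card_le_one (h2 e e' X b1 b2 b3), hG⟩

end

/-- **The criterion from the bounds `NumOK`.** -/
theorem fin_crit (hI : BoxCI) (hC : BoxCrit) {D : ChevalleyDatum} {l : ℕ} {M : CoxeterMatrix (Fin l)}
    {hp : IsType D l M} (hD : Typ D) {p : ℕ} [Fact p.Prime] {G : Type} [Group G] [Finite G] {T S : Subgroup G}
    (C : Ctx p T S) {q : ℕ} (F : XF hp p q T)
    (h2 : D = chevE6 → p ≠ 2 → ∀ X : Subgroup G, X ≤ S ⊓ T → IsPGroup 2 X → Nm S X → X = ⊥)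
    (h : NumOK l p q (Nat.card ↥(fit S ⊓ F.ID C.as.normal)) (Nat.card ↥(S ⊓ T))) : FitReg T S := by
  have hq := two_le_q F
  rcases h with ⟨rfl, h3, hf, hr⟩ | ⟨rfl, hf, hr⟩ | ⟨rfl, h3, hf, hr⟩ | ⟨rfl, h3, hf, hr⟩ |
    ⟨rfl, h3, ⟨hf, hr⟩ | ⟨hf, hr⟩ | ⟨hf, hr⟩⟩
  · exact crit_gen hI hC hD C F h2 numG4 hq (by simp [bI, h3]) hf hr
  · exact crit_gen hI hC hD C F h2 numG8 hq (by simp [bI]) hf hr
  · exact crit_gen hI hC hD C F h2 numG6 h3 (by simp [bI]) hf hr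
  · exact crit_six hI hC hD C F h2 num63 h3.ge (by decide +kernel) hf hr
  · exact crit_six hI hC hD C F h2 num62a hq (by decide +kernel) hf hr
  · exact crit_six hI hC hD C F h2 num62b hq (by decide +kernel) hf hr
  · exact crit_six hI hC hD C F h2 num62c hq (by decide +kernel) hf hr

theorem ordU_ge {l q : ℕ} (hq : 2 ≤ q) (hd : 0 + l ≤ nP l + (degs l).sum)
    (h : (696729600 + 1) * dM l * (2 ^ 0 * (2 + 1) ^ l) ≤ ordU l 2) {n : ℕ} (hn : ordU l q ≤ dM l * n) :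
    (q + 1) ^ l * 696729600 < n := by
  have h1 := (NT.scale (by norm_num) hq hd h).trans hn
  have h2 : 0 < dM l := by
    unfold dM
    split_ifs <;> norm_num
  have h3 : (696729600 + 1) * (q + 1) ^ l ≤ n := Nat.le_of_mul_le_mul_left (le_trans (le_of_eq (by ring)) h1) h2
  have h4 : 0 < (q + 1) ^ l := by positivity
  omega

/-- the socle is larger than the normaliser of a maximal torus -/
theorem ord_gt {D : ChevalleyDatum} {l : ℕ} {M : CoxeterMatrix (Fin l)} {hp : IsType D l M} {p : ℕ} [Fact p.Prime]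
    {G : Type} [Group G] {T : Subgroup G} {q : ℕ} (F : XF hp p q T) (hD : Typ D) :
    (q + 1) ^ l * 696729600 < Nat.card T := by
  have hl := DS.Nt.typ_l hp
  have hq := two_le_q F
  rcases hD with h | h | h | h
  · obtain rfl := hl.1 h
    exact ordU_ge hq (by decide) (by decide +kernel) F.ord
  · obtain rfl := hl.2.1 h
    exact ordU_ge hq (by decide) (by decide +kernel) F.ord
  · obtain rfl := hl.2.2.1 h
    exact ordU_ge hq (by decide) (by decide +kernel) F.ord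
  · obtain rfl := hl.2.2.2 h
    exact ordU_ge hq (by decide) (by decide +kernel) F.ord

end Cfsg.Agent.SB.Exc.Tor
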